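import Groth.Agent.CAlg.K58.Syz

/-!
# Uniform degree bounds for contractions of ideals along finite field extensions
-/

set_option autoImplicit false
universe u

open MvPolynomial

namespace K58.Contr

section

variable {σ L L' : Type*} [Field L] [Field L'] [Algebra L L'] {n : ℕ} (b : Module.Basis (Fin n) L L')

/-- The `l`-th component of a polynomial with respect to a basis. -/
noncomputable def comp (l : Fin n) (p : MvPolynomial σ L') : MvPolynomial σ L :=
  ∑ m ∈ p.support, monomial m (b.repr (coeff m p) l)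

theorem coeff_comp (l : Fin n) (p : MvPolynomial σ L') (m : σ →₀ ℕ) :
    coeff m (comp b l p) = b.repr (coeff m p) l := by
  classical
  rw [comp, coeff_sum]
  simp only [coeff_monomial]
  rw [Finset.sum_ite_eq']
  split_ifs with h
  · rfl
  · rw [MvPolynomial.notMem_support_iff.1 h, map_zero]
    rfl

theorem totalDegree_comp_le (l : Fin n) (p : MvPolynomial σ L') : (comp b l p).totalDegree ≤ p.totalDegree := by
  refine Finset.sup_mono fun m hm ↦ ?_
  rw [MvPolynomial.mem_support_iff, coeff_comp] at hm
  rw [MvPolynomial.mem_support_iff]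
  intro h
  rw [h, map_zero] at hm
  exact hm rfl

theorem sum_comp (p : MvPolynomial σ L') :
    ∑ l, C (b l) * MvPolynomial.map (algebraMap L L') (comp b l p) = p := by
  ext m
  rw [coeff_sum]
  simp only [coeff_C_mul, coeff_map, coeff_comp]
  conv_rhs => rw [← b.sum_repr (coeff m p)]
  refine Finset.sum_congr rfl fun l _ ↦ ?_
  rw [Algebra.smul_def, mul_comm]

theorem eq_zero_of_sum (q : Fin n → MvPolynomial σ L)
    (h : ∑ l, C (b l) * MvPolynomial.map (algebraMap L L') (q l) = 0) (l : Fin n) : q l = 0 := by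
  ext m
  have h1 := congrArg (coeff m) h
  rw [coeff_sum] at h1
  simp only [coeff_C_mul, coeff_map, coeff_zero] at h1
  have h2 : ∑ l, (coeff m (q l)) • b l = 0 := by
    rw [← h1]
    refine Finset.sum_congr rfl fun l _ ↦ ?_
    rw [Algebra.smul_def, mul_comm]
  exact (Fintype.linearIndependent_iff.1 b.linearIndependent) _ h2 l

end

/-- Contraction bound for an extension with a given basis. -/
theorem contr_of_basis {N d B n : ℕ} {ι : Type} [Fintype ι] {L L' : Type u} [Field L] [Field L'] [Algebra L L']
    (b : Module.Basis (Fin n) L L')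
    (hB : ∀ (M : Matrix (Fin n) (Option (ι × Fin n)) (MvPolynomial (Fin N) L)),
      (∀ i j, (M i j).totalDegree ≤ d) → Syz.Ker M ≤ Submodule.span (MvPolynomial (Fin N) L) (Syz.kerLE M B))
    (g : ι → MvPolynomial (Fin N) L') (hg : ∀ j, (g j).totalDegree ≤ d) :
    Ideal.comap (MvPolynomial.map (algebraMap L L')) (Ideal.span (Set.range g)) ≤
      Ideal.span {f | f.totalDegree ≤ B ∧ MvPolynomial.map (algebraMap L L') f ∈ Ideal.span (Set.range g)} := by
  classical
  let M : Matrix (Fin n) (Option (ι × Fin n)) (MvPolynomial (Fin N) L) := Matrix.of fun l x ↦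
    Option.casesOn x (comp b l 1) (fun y ↦ comp b l (C (b y.2) * g y.1))
  have hM : ∀ i j, (M i j).totalDegree ≤ d := by
    intro i j
    cases j with
    | none => exact (totalDegree_comp_le b i _).trans (by simp)
    | some y =>
      refine (totalDegree_comp_le b i _).trans ?_
      refine (MvPolynomial.totalDegree_mul _ _).trans ?_
      rw [totalDegree_C, zero_add]
      exact hg _
  have key : ∀ v : Option (ι × Fin n) → MvPolynomial (Fin N) L, 
      ∑ l, C (b l) * MvPolynomial.map (algebraMap L L') (M.mulVec v l) =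
      MvPolynomial.map (algebraMap L L') (v none) +
        ∑ y : ι × Fin n, C (b y.2) * g y.1 * MvPolynomial.map (algebraMap L L') (v (some y)) := by
    intro v
    have h1 : ∀ l, C (b l) * MvPolynomial.map (algebraMap L L') (M.mulVec v l) =
        ∑ x, (C (b l) * MvPolynomial.map (algebraMap L L') (M l x)) * MvPolynomial.map (algebraMap L L') (v x) := by
      intro l
      rw [Matrix.mulVec, dotProduct, map_sum, Finset.mul_sum]
      refine Finset.sum_congr rfl fun x _ ↦ ?_
      rw [map_mul, mul_assoc]
    simp only [h1]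
    rw [Finset.sum_comm, Fintype.sum_option]
    congr 1
    · rw [← Finset.sum_mul]
      have : ∑ l, C (b l) * MvPolynomial.map (algebraMap L L') (M l none) = 1 := sum_comp b 1
      rw [this, one_mul]
    · refine Finset.sum_congr rfl fun y _ ↦ ?_
      rw [← Finset.sum_mul]
      have : ∑ l, C (b l) * MvPolynomial.map (algebraMap L L') (M l (some y)) = C (b y.2) * g y.1 := sum_comp b _
      rw [this]
  intro f hf
  rw [Ideal.mem_comap, Ideal.mem_span_range_iff_exists_fun] at hf
  obtain ⟨h, hh⟩ := hf
  let v : Option (ι × Fin n) → MvPolynomial (Fin N) L := fun x ↦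
    Option.casesOn x (-f) (fun y ↦ comp b y.2 (h y.1))
  have hv : v ∈ Syz.Ker M := by
    rw [LinearMap.mem_ker, Matrix.mulVecLin_apply]
    funext l
    refine eq_zero_of_sum b _ ?_ l
    rw [key]
    change MvPolynomial.map (algebraMap L L') (-f) + ∑ y : ι × Fin n,
      C (b y.2) * g y.1 * MvPolynomial.map (algebraMap L L') (comp b y.2 (h y.1)) = 0
    rw [map_neg, ← hh, Fintype.sum_prod_type, neg_add_eq_zero]
    refine Finset.sum_congr rfl fun j _ ↦ ?_
    conv_lhs => rw [← sum_comp b (h j), Finset.sum_mul]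
    refine Finset.sum_congr rfl fun l _ ↦ ?_
    ring
  have h2 := hB M hM hv
  have h3 := Submodule.mem_map_of_mem (f := LinearMap.proj (R := MvPolynomial (Fin N) L)
    (φ := fun _ : Option (ι × Fin n) ↦ MvPolynomial (Fin N) L) none) h2
  rw [Submodule.map_span] at h3
  have h4 : f ∈ Submodule.span (MvPolynomial (Fin N) L) (LinearMap.proj (R := MvPolynomial (Fin N) L)
    (φ := fun _ : Option (ι × Fin n) ↦ MvPolynomial (Fin N) L) none '' (Syz.kerLE M B)) := by
    rw [← neg_neg f]
    exact Submodule.neg_mem _ h3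
  refine (Submodule.span_mono ?_ : _ ≤ Submodule.span (MvPolynomial (Fin N) L) _) h4
  rintro _ ⟨w, ⟨hw1, hw2⟩, rfl⟩
  refine ⟨hw2 none, ?_⟩
  have h5 := key w
  rw [hw1] at h5
  simp only [Pi.zero_apply, map_zero, mul_zero, Finset.sum_const_zero] at h5
  change MvPolynomial.map (algebraMap L L') (w none) ∈ _
  rw [eq_neg_of_add_eq_zero_left h5.symm]
  refine neg_mem (Ideal.sum_mem _ fun y _ ↦ Ideal.mul_mem_right _ _ (Ideal.mul_mem_left _ _ (Ideal.subset_span ⟨_, rfl⟩)))

/-- Uniform degree bound for contractions along field extensions of bounded degree. -/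
theorem exists_contr_bound (N n d : ℕ) (ι : Type) [Fintype ι] : ∃ B : ℕ, ∀ (L L' : Type u) [Field L] [Field L']
    [Algebra L L'] [FiniteDimensional L L'], Module.finrank L L' ≤ n → ∀ g : ι → MvPolynomial (Fin N) L',
      (∀ j, (g j).totalDegree ≤ d) → Ideal.comap (MvPolynomial.map (algebraMap L L')) (Ideal.span (Set.range g)) ≤
      Ideal.span {f | f.totalDegree ≤ B ∧ MvPolynomial.map (algebraMap L L') f ∈ Ideal.span (Set.range g)} := by
  choose B hB using fun n' : ℕ ↦ Syz.exists_bound.{u} N d (Fin n') (Option (ι × Fin n'))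
  refine ⟨(Finset.range (n + 1)).sup B, fun L L' _ _ _ _ hn g hg ↦ ?_⟩
  refine contr_of_basis (Module.finBasis L L') (fun M hM ↦ ?_) g hg
  refine (hB _ L M hM).trans (Submodule.span_mono (Syz.kerLE_mono _ ?_))
  exact Finset.le_sup (Finset.mem_range.2 (Nat.lt_succ_of_le hn))

end K58.Contr
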