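import Groth.Agent.ParaF.K589.ElkikGeneral
import Groth.Agent.ParaF.K589.ElkikCert
import Groth.Agent.ParaF.K589.ElkikModule
import Mathlib.RingTheory.RingHom.Smooth
import Mathlib.RingTheory.AdicCompletion.Algebra
import Mathlib.RingTheory.AdicCompletion.Noetherian
import Mathlib.RingTheory.Ideal.Quotient.Nilpotent

/-!
# Elkik's approximation theorem at a point

`exists_algHom`: `(A, J)` a Noetherian henselian pair, `C` an `A`-algebra of finite type, `H` an ideal of `C` such that
`C_h` is smooth over `A` for `h ∈ H` (the complement of `V(H)` is contained in the smooth locus), `σ : C → Â` with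
`J ^ m Â ⊆ σ(H) Â`. Then `σ` is congruent modulo `J ^ n` to an `A`-algebra map `C → A`.
-/

set_option autoImplicit false
universe u

open MvPolynomial K589

namespace K58.ElkikPt

section Sys

variable {A : Type u} [CommRing A] {ι κ s r : Type} [Fintype r]

/-- The extended system: `f = 0` and `t i = ∑ l, h l * z (i, l)`. -/
noncomputable def sys (f : κ → MvPolynomial ι A) (h : r → MvPolynomial ι A) (t : s → A) :
    κ ⊕ s → MvPolynomial (ι ⊕ (s × r)) A :=
  Sum.elim (fun j ↦ rename Sum.inl (f j))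
    (fun i ↦ C (t i) - ∑ l, rename Sum.inl (h l) * X (Sum.inr (i, l)))

theorem eval₂_sys_inl (f : κ → MvPolynomial ι A) (h : r → MvPolynomial ι A) (t : s → A) {B : Type*} [CommRing B]
    (φ : A →+* B) (x : ι ⊕ (s × r) → B) (j : κ) :
    eval₂ φ x (sys f h t (Sum.inl j)) = eval₂ φ (x ∘ Sum.inl) (f j) := by
  rw [sys, Sum.elim_inl, eval₂_rename]

theorem eval₂_sys_inr (f : κ → MvPolynomial ι A) (h : r → MvPolynomial ι A) (t : s → A) {B : Type*} [CommRing B]
    (φ : A →+* B) (x : ι ⊕ (s × r) → B) (i : s) :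
    eval₂ φ x (sys f h t (Sum.inr i)) = φ (t i) - ∑ l, eval₂ φ (x ∘ Sum.inl) (h l) * x (Sum.inr (i, l)) := by
  rw [sys, Sum.elim_inr, eval₂_sub, eval₂_C, eval₂_sum]
  simp only [eval₂_mul, eval₂_rename, eval₂_X]

/-- The algebra of the system. -/
abbrev Q (f : κ → MvPolynomial ι A) : Type u := MvPolynomial ι A ⧸ Ideal.span (Set.range f)

/-- The map between the algebras of the systems. -/
noncomputable def toQ (f : κ → MvPolynomial ι A) (h : r → MvPolynomial ι A) (t : s → A) :
    Q f →ₐ[A] Q (sys f h t) :=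
  Ideal.quotientMapₐ _ (rename Sum.inl) (by
    rw [Ideal.span_le]
    rintro _ ⟨j, rfl⟩
    exact Ideal.subset_span ⟨Sum.inl j, rfl⟩)

theorem sum_eq_of_sys (f : κ → MvPolynomial ι A) (h : r → MvPolynomial ι A) (t : s → A) {B : Type*} [CommRing B]
    (g : Q (sys f h t) →+* B) (i : s) :
    ∑ l, g (Ideal.Quotient.mk _ (rename Sum.inl (h l))) * g (Ideal.Quotient.mk _ (X (Sum.inr (i, l)))) =
      g (Ideal.Quotient.mk _ (C (t i))) := by
  have h1 : Ideal.Quotient.mk (Ideal.span (Set.range (sys f h t))) (sys f h t (Sum.inr i)) = 0 :=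
    Ideal.Quotient.eq_zero_iff_mem.2 (Ideal.subset_span ⟨_, rfl⟩)
  have h2 : sys f h t (Sum.inr i) = C (t i) - ∑ l, rename Sum.inl (h l) * X (Sum.inr (i, l)) := rfl
  rw [h2, map_sub, sub_eq_zero] at h1
  rw [h1, map_sum, map_sum]
  refine Finset.sum_congr rfl fun l _ ↦ ?_
  rw [map_mul, map_mul]

theorem formallySmooth_over (f : κ → MvPolynomial ι A) (h : r → MvPolynomial ι A) (t : s → A) (T : A) (m : ℕ) (i₀ : s)
    (hT : t i₀ = T ^ m) (S : Type u) [CommRing S] [Algebra (Q (sys f h t)) S]
    [IsLocalization.Away (Ideal.Quotient.mk (Ideal.span (Set.range (sys f h t))) (C T)) S] [Algebra (Q f) S]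
    (hS : algebraMap (Q f) S = (algebraMap (Q (sys f h t)) S).comp (toQ f h t).toRingHom) :
    Algebra.FormallySmooth (Q f) S := by
  classical
  refine Algebra.FormallySmooth.of_comp_surjective fun B _ _ I hI g ↦ ?_
  have hnil : IsNilpotent I := ⟨2, hI⟩
  let gQ : Q (sys f h t) →+* B ⧸ I := g.toRingHom.comp (algebraMap _ S)
  let φ : A →+* B := (algebraMap (Q f) B).comp (algebraMap A (Q f))
  let xs : ι → B := fun j ↦ algebraMap (Q f) B (Ideal.Quotient.mk _ (X j))
  have hmap : ∀ q : MvPolynomial ι A, algebraMap (Q f) B (Ideal.Quotient.mk _ q) = eval₂ φ xs q := by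
    intro q
    have : ((algebraMap (Q f) B).comp (Ideal.Quotient.mk _)) = eval₂Hom φ xs := by
      apply MvPolynomial.ringHom_ext
      · intro a
        simp only [RingHom.comp_apply, coe_eval₂Hom, eval₂_C, φ]
        rfl
      · intro j
        simp only [RingHom.comp_apply, coe_eval₂Hom, eval₂_X, xs]
    exact DFunLike.congr_fun this q
  have hgtoQ : ∀ q : Q f, gQ (toQ f h t q) = Ideal.Quotient.mk I (algebraMap (Q f) B q) := by
    intro q
    have h1 : algebraMap (Q (sys f h t)) S (toQ f h t q) = algebraMap (Q f) S q := by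
      rw [hS]
      rfl
    change g (algebraMap (Q (sys f h t)) S (toQ f h t q)) = _
    rw [h1, g.commutes]
    rfl
  have htoQ : ∀ q : MvPolynomial ι A, toQ f h t (Ideal.Quotient.mk _ q) = Ideal.Quotient.mk _ (rename Sum.inl q) :=
    fun q ↦ rfl
  have hgr : ∀ q : MvPolynomial ι A, gQ (Ideal.Quotient.mk _ (rename Sum.inl q)) = Ideal.Quotient.mk I (eval₂ φ xs q) := by
    intro q
    rw [← htoQ, hgtoQ, hmap]
  have hgC : ∀ a : A, gQ (Ideal.Quotient.mk _ (C a)) = Ideal.Quotient.mk I (φ a) := by
    intro a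
    have := hgr (C a)
    rw [rename_C, eval₂_C] at this
    exact this
  choose z hz using fun y : s × r ↦ Ideal.Quotient.mk_surjective (gQ (Ideal.Quotient.mk _ (X (Sum.inr y))))
  let hB : r → B := fun l ↦ eval₂ φ xs (h l)
  have hrel : ∀ i, Ideal.Quotient.mk I (∑ l, hB l * z (i, l)) = Ideal.Quotient.mk I (φ (t i)) := by
    intro i
    rw [← hgC, ← sum_eq_of_sys, map_sum]
    refine Finset.sum_congr rfl fun l _ ↦ ?_
    rw [map_mul, hz, hgr]
  have hTunit : IsUnit (φ T) := by
    rw [← hnil.isUnit_quotient_mk_iff, ← hgC]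
    exact (IsLocalization.Away.algebraMap_isUnit (S := S)
      (Ideal.Quotient.mk (Ideal.span (Set.range (sys f h t))) (C T))).map g.toRingHom
  have hw : IsUnit (∑ l, hB l * z (i₀, l)) := by
    rw [← hnil.isUnit_quotient_mk_iff, hrel, hT, map_pow, map_pow]
    exact (hTunit.map _).pow m
  obtain ⟨w, hw⟩ := hw
  let c : r → B := fun l ↦ ↑w⁻¹ * z (i₀, l)
  have hc : ∑ l, hB l * c l = 1 := by
    have : ∑ l, hB l * c l = ↑w⁻¹ * ∑ l, hB l * z (i₀, l) := by
      rw [Finset.mul_sum]
      refine Finset.sum_congr rfl fun l _ ↦ ?_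
      simp only [c]
      ring
    rw [this, ← hw, Units.inv_mul]
  let e : s → B := fun i ↦ φ (t i) - ∑ l, hB l * z (i, l)
  have he : ∀ i, e i ∈ I := fun i ↦ by
    rw [← Ideal.Quotient.eq_zero_iff_mem, map_sub, hrel, sub_self]
  let z' : s × r → B := fun y ↦ z y + c y.2 * e y.1
  have hz' : ∀ i, ∑ l, hB l * z' (i, l) = φ (t i) := by
    intro i
    have : ∑ l, hB l * z' (i, l) = ∑ l, hB l * z (i, l) + (∑ l, hB l * c l) * e i := by
      rw [Finset.sum_mul, ← Finset.sum_add_distrib]
      refine Finset.sum_congr rfl fun l _ ↦ ?_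
      simp only [z']
      ring
    rw [this, hc, one_mul]
    simp only [e]
    ring
  let x' : ι ⊕ (s × r) → B := Sum.elim xs z'
  have hx' : ∀ i, eval₂ φ x' (sys f h t i) = 0 := by
    rintro (j | i)
    · rw [eval₂_sys_inl]
      change eval₂ φ xs (f j) = 0
      have h1 : Ideal.Quotient.mk (Ideal.span (Set.range f)) (f j) = 0 :=
        Ideal.Quotient.eq_zero_iff_mem.2 (Ideal.subset_span ⟨j, rfl⟩)
      rw [← hmap, h1, map_zero]
    · rw [eval₂_sys_inr, sub_eq_zero]
      exact (hz' i).symm
  let ψ : Q (sys f h t) →+* B := Ideal.Quotient.lift _ (eval₂Hom φ x') (by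
    intro a ha
    have : Ideal.span (Set.range (sys f h t)) ≤ RingHom.ker (eval₂Hom φ x') := by
      rw [Ideal.span_le]
      rintro _ ⟨i, rfl⟩
      exact hx' i
    exact this ha)
  have hψ : ∀ q, ψ (Ideal.Quotient.mk _ q) = eval₂ φ x' q := fun q ↦ rfl
  have hψT : IsUnit (ψ (Ideal.Quotient.mk (Ideal.span (Set.range (sys f h t))) (C T))) := by
    rw [hψ, eval₂_C]
    exact hTunit
  let Ψ : S →+* B := IsLocalization.Away.lift _ hψT
  have hΨ : ∀ q, Ψ (algebraMap _ S q) = ψ q := fun q ↦ IsLocalization.Away.lift_eq _ hψT q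
  have hψtoQ : ψ.comp (toQ f h t).toRingHom = algebraMap (Q f) B := by
    apply Ideal.Quotient.ringHom_ext
    apply RingHom.ext
    intro q
    simp only [RingHom.comp_apply]
    change ψ (toQ f h t (Ideal.Quotient.mk _ q)) = _
    rw [htoQ, hψ, eval₂_rename, hmap]
    rfl
  refine ⟨⟨Ψ, fun q ↦ ?_⟩, ?_⟩
  · change Ψ (algebraMap (Q f) S q) = _
    rw [hS]
    change Ψ (algebraMap _ S (toQ f h t q)) = _
    rw [hΨ]
    exact DFunLike.congr_fun hψtoQ q
  · have key : ((Ideal.Quotient.mk I).comp Ψ) = g.toRingHom := by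
      apply IsLocalization.ringHom_ext (Submonoid.powers (Ideal.Quotient.mk (Ideal.span (Set.range (sys f h t))) (C T)))
      apply Ideal.Quotient.ringHom_ext
      apply MvPolynomial.ringHom_ext
      · intro a
        simp only [RingHom.comp_apply]
        rw [hΨ, hψ, eval₂_C]
        exact (hgC a).symm
      · rintro (j | y)
        · simp only [RingHom.comp_apply]
          rw [hΨ, hψ, eval₂_X]
          have := hgr (X j)
          rw [rename_X, eval₂_X] at this
          exact this.symm
        · simp only [RingHom.comp_apply]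
          rw [hΨ, hψ, eval₂_X]
          change Ideal.Quotient.mk I (z y + c y.2 * e y.1) = _
          rw [map_add, map_mul, Ideal.Quotient.eq_zero_iff_mem.2 (he _), mul_zero, add_zero, hz]
          rfl
    exact AlgHom.ext fun x ↦ DFunLike.congr_fun key x

theorem formallySmooth_sys [IsNoetherianRing A] [Finite ι] [Finite s] (f : κ → MvPolynomial ι A)
    (h : r → MvPolynomial ι A) (t : s → A)
    (T : A) (m : ℕ) (i₀ : s) (hT : t i₀ = T ^ m)
    (hsm : ∀ l, Algebra.FormallySmooth A (Localization.Away (Ideal.Quotient.mk (Ideal.span (Set.range f)) (h l)))) :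
    Algebra.FormallySmooth A
      (Localization.Away (Ideal.Quotient.mk (Ideal.span (Set.range (sys f h t))) (C T))) := by
  classical
  let S := Localization.Away (Ideal.Quotient.mk (Ideal.span (Set.range (sys f h t))) (C T))
  let : Algebra (Q f) S := ((algebraMap (Q (sys f h t)) S).comp (toQ f h t).toRingHom).toAlgebra
  have hS : algebraMap (Q f) S = (algebraMap (Q (sys f h t)) S).comp (toQ f h t).toRingHom := rfl
  have : IsScalarTower A (Q f) S := by
    refine IsScalarTower.of_algebraMap_eq' (R := A) (S := Q f) (A := S) ?_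
    rw [hS, RingHom.comp_assoc]
    change _ = (algebraMap (Q (sys f h t)) S).comp ((toQ f h t).toRingHom.comp (algebraMap A (Q f)))
    rw [AlgHom.toRingHom_eq_coe, AlgHom.comp_algebraMap, ← IsScalarTower.algebraMap_eq]
  have fs : Algebra.FormallySmooth (Q f) S := formallySmooth_over f h t T m i₀ hT S hS
  have hspan : Ideal.span (Set.range fun l ↦ algebraMap (Q f) S (Ideal.Quotient.mk _ (h l))) = ⊤ := by
    rw [Ideal.eq_top_iff_one]
    have h1 := sum_eq_of_sys f h t (algebraMap (Q (sys f h t)) S) i₀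
    have h2 : IsUnit (algebraMap (Q (sys f h t)) S (Ideal.Quotient.mk _ (C (t i₀)))) := by
      rw [hT, map_pow, map_pow, map_pow]
      exact (IsLocalization.Away.algebraMap_isUnit (S := S)
        (Ideal.Quotient.mk (Ideal.span (Set.range (sys f h t))) (C T))).pow m
    have h3 : algebraMap (Q (sys f h t)) S (Ideal.Quotient.mk _ (C (t i₀))) ∈
        Ideal.span (Set.range fun l ↦ algebraMap (Q f) S (Ideal.Quotient.mk _ (h l))) := by
      rw [← h1]
      exact Ideal.sum_mem _ fun l _ ↦ Ideal.mul_mem_right _ _ (Ideal.subset_span ⟨l, rfl⟩)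
    exact (Ideal.eq_top_iff_one _).1 (Ideal.eq_top_of_isUnit_mem _ h3 h2)
  have hft : Algebra.FiniteType A (Q (sys f h t)) := inferInstance
  have hft' : Algebra.FiniteType A S := Algebra.FiniteType.trans hft
    (IsLocalization.finiteType_of_monoid_fg (Submonoid.powers
      (Ideal.Quotient.mk (Ideal.span (Set.range (sys f h t))) (C T))) S)
  have key : (algebraMap A S).Smooth := by
    refine RingHom.Smooth.ofLocalizationSpanTarget (algebraMap A S) _ hspan ?_
    rintro ⟨_, l, rfl⟩
    let q := algebraMap (Q f) S (Ideal.Quotient.mk _ (h l))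
    let Sr := Localization.Away q
    change ((algebraMap S Sr).comp (algebraMap A S)).Smooth
    rw [← IsScalarTower.algebraMap_eq, RingHom.smooth_algebraMap]
    have hq : IsUnit (algebraMap (Q f) Sr (Ideal.Quotient.mk _ (h l))) := by
      rw [IsScalarTower.algebraMap_apply (Q f) S Sr]
      exact IsLocalization.Away.algebraMap_isUnit q
    let Qh := Localization.Away (Ideal.Quotient.mk (Ideal.span (Set.range f)) (h l))
    let : Algebra Qh Sr := (IsLocalization.Away.lift (Ideal.Quotient.mk (Ideal.span (Set.range f)) (h l)) hq).toAlgebra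
    have t1 : IsScalarTower (Q f) Qh Sr := IsScalarTower.of_algebraMap_eq (R := Q f) (S := Qh) (A := Sr) fun x ↦
      (IsLocalization.Away.lift_eq _ hq x).symm
    have t0 : IsScalarTower A (Q f) Sr := IsScalarTower.of_algebraMap_eq (R := A) (S := Q f) (A := Sr) fun a ↦ by
      rw [IsScalarTower.algebraMap_apply A S Sr, IsScalarTower.algebraMap_apply A (Q f) S]
      exact (IsScalarTower.algebraMap_apply (Q f) S Sr _).symm
    have t2 : IsScalarTower A Qh Sr := IsScalarTower.of_algebraMap_eq (R := A) (S := Qh) (A := Sr) fun a ↦ by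
      rw [IsScalarTower.algebraMap_apply A (Q f) Sr, IsScalarTower.algebraMap_apply A (Q f) Qh]
      exact IsScalarTower.algebraMap_apply (Q f) Qh Sr _
    have f1 : Algebra.FormallySmooth (Q f) Sr := inferInstance
    have f2 : Algebra.FormallySmooth Qh Sr :=
      Algebra.FormallySmooth.localization_base (Submonoid.powers (Ideal.Quotient.mk (Ideal.span (Set.range f)) (h l)))
    have f3 : Algebra.FormallySmooth A Qh := hsm l
    have f4 : Algebra.FormallySmooth A Sr := Algebra.FormallySmooth.comp A Qh Sr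
    have hft'' : Algebra.FiniteType A Sr := Algebra.FiniteType.trans hft'
      (IsLocalization.finiteType_of_monoid_fg (Submonoid.powers q) Sr)
    exact ⟨f4, Algebra.FinitePresentation.of_finiteType.1 hft''⟩
  exact (RingHom.smooth_algebraMap.1 key).formallySmooth

end Sys

section Main

theorem formallySmooth_away_of_equiv {A R S : Type u} [CommRing A] [CommRing R] [CommRing S] [Algebra A R]
    [Algebra A S] (e : R ≃ₐ[A] S) (r : R) (s : S) (hs : e r = s) (hf : Algebra.FormallySmooth A (Localization.Away s)) :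
    Algebra.FormallySmooth A (Localization.Away r) := by
  subst hs
  have h : Submonoid.map e (Submonoid.powers r) = Submonoid.powers (e r) :=
    Submonoid.map_powers _ _
  exact Algebra.FormallySmooth.of_equiv (IsLocalization.algEquivOfAlgEquiv (M := Submonoid.powers r)
    (T := Submonoid.powers (e r)) (Localization.Away r) (Localization.Away (e r)) e h).symm

theorem exists_sum_of_mem_span {B : Type*} [CommRing B] {r : Type*} [Fintype r] (g : r → B) (x : B)
    (hx : x ∈ Ideal.span (Set.range g)) : ∃ c : r → B, ∑ l, g l * c l = x := by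
  obtain ⟨c, hc⟩ := (Ideal.mem_span_range_iff_exists_fun).1 hx
  exact ⟨c, by rw [← hc]; exact Finset.sum_congr rfl fun l _ ↦ mul_comm _ _⟩

theorem factor_evalₐ {R : Type u} [CommRing R] (I : Ideal R) {a b : ℕ} (hab : a ≤ b) (x : AdicCompletion I R) :
    Ideal.Quotient.factor (Ideal.pow_le_pow_right hab) (AdicCompletion.evalₐ I b x) = AdicCompletion.evalₐ I a x := by
  obtain ⟨x, rfl⟩ := AdicCompletion.mk_surjective I R x
  rw [AdicCompletion.evalₐ_mk, AdicCompletion.evalₐ_mk, Ideal.Quotient.factor_mk]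
  refine Ideal.Quotient.eq.2 ?_
  have := x.property hab
  rw [SModEq.sub_mem] at this
  have h2 := neg_mem this
  rw [neg_sub, smul_eq_mul, Ideal.mul_top] at h2
  exact h2

/-- **Elkik's approximation theorem** at a point of the completion. -/
theorem exists_algHom (A : Type u) [CommRing A] [IsNoetherianRing A] (J : Ideal A) [hen : HenselianRing A J]
    (C₀ : Type u) [CommRing C₀] [Algebra A C₀] [Algebra.FiniteType A C₀] (H : Ideal C₀)
    (hH : ∀ h ∈ H, Algebra.FormallySmooth A (Localization.Away h))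
    (σ : C₀ →ₐ[A] AdicCompletion J A) (m : ℕ)
    (hσ : (J ^ m).map (algebraMap A (AdicCompletion J A)) ≤ H.map σ) (n : ℕ) :
    ∃ τ : C₀ →ₐ[A] A, (Ideal.Quotient.mkₐ A (J ^ n)).comp τ = (AdicCompletion.evalₐ J n).comp σ := by
  classical
  obtain ⟨N₁, p, hp⟩ := (Algebra.FiniteType.iff_quotient_mvPolynomial'' (R := A) (S := C₀)).1 inferInstance
  obtain ⟨M₁, F, hF⟩ := Submodule.fg_iff_exists_fin_generating_family.1 (IsNoetherian.noetherian (RingHom.ker p))
  have hF' : Ideal.span (Set.range F) = RingHom.ker p := hF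
  let e : Q F ≃ₐ[A] C₀ := (Ideal.quotientEquivAlgOfEq A hF').trans (Ideal.quotientKerAlgEquivOfSurjective hp)
  have he : ∀ q : MvPolynomial (Fin N₁) A, e (Ideal.Quotient.mk _ q) = p q := fun q ↦ rfl
  have : IsNoetherianRing C₀ := Algebra.FiniteType.isNoetherianRing A C₀
  obtain ⟨R₁, hg, hg'⟩ := Submodule.fg_iff_exists_fin_generating_family.1 (IsNoetherian.noetherian H)
  have hg'' : Ideal.span (Set.range hg) = H := hg'
  choose h hh using fun l ↦ hp (hg l)
  obtain ⟨ts, hts⟩ := ElkikModule.exists_list_of_fg J (IsNoetherian.noetherian J)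
  let t : Fin ts.length → A := fun i ↦ ts.get i ^ m
  have htsJ : ∀ i, ts.get i ∈ J := fun i ↦ by
    rw [← hts]
    exact Ideal.subset_span (List.get_mem ts i)
  have hsm : ∀ l, Algebra.FormallySmooth A (Localization.Away (Ideal.Quotient.mk (Ideal.span (Set.range F)) (h l))) := by
    intro l
    refine formallySmooth_away_of_equiv e _ (hg l) ?_ (hH _ ?_)
    · rw [he, hh]
    · rw [← hg'']
      exact Ideal.subset_span ⟨l, rfl⟩
  have hcert : ∀ T ∈ ts, ∃ (k : ℕ) (S : Matrix (Fin N₁ ⊕ (Fin ts.length × Fin R₁)) (Fin M₁ ⊕ Fin ts.length)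
      (MvPolynomial (Fin N₁ ⊕ (Fin ts.length × Fin R₁)) A)), ElkikNewton.Cert T (sys F h t) k S := by
    intro T hT
    obtain ⟨i₀, rfl⟩ := List.get_of_mem hT
    have := formallySmooth_sys F h t (ts.get i₀) m i₀ rfl hsm
    have : IsLocalization.Away (algebraMap A (MvPolynomial (Fin N₁ ⊕ (Fin ts.length × Fin R₁)) A ⧸
        Ideal.span (Set.range (sys F h t))) (ts.get i₀))
        (Localization.Away (Ideal.Quotient.mk (Ideal.span (Set.range (sys F h t))) (C (ts.get i₀)))) :=
      inferInstanceAs (IsLocalization.Away (Ideal.Quotient.mk (Ideal.span (Set.range (sys F h t))) (C (ts.get i₀)))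
        (Localization.Away (Ideal.Quotient.mk (Ideal.span (Set.range (sys F h t))) (C (ts.get i₀)))))
    exact ElkikCert.exists_cert_of_formallySmooth (ts.get i₀) (sys F h t)
      (Localization.Away (Ideal.Quotient.mk (Ideal.span (Set.range (sys F h t))) (C (ts.get i₀))))
  have hmapid : ts.map (algebraMap A A) = ts := List.map_id' ts
  obtain ⟨N, hN⟩ := ElkikGeneral.exists_solution_of_flat (sys F h t) A A ts (by rw [hmapid, hts]; exact hen) ts hcert n
  -- the point of the completion
  have hz : ∀ i, ∃ z : Fin R₁ → AdicCompletion J A, ∑ l, σ (hg l) * z l = algebraMap A _ (t i) := by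
    intro i
    refine exists_sum_of_mem_span _ _ ?_
    have h1 : algebraMap A (AdicCompletion J A) (t i) ∈ H.map σ := by
      refine hσ (Ideal.mem_map_of_mem _ ?_)
      exact Ideal.pow_mem_pow (htsJ i) m
    rw [← hg'', Ideal.map_span, ← Set.range_comp] at h1
    exact h1
  choose z hz using hz
  let xh : Fin N₁ ⊕ (Fin ts.length × Fin R₁) → AdicCompletion J A :=
    Sum.elim (fun j ↦ σ (p (X j))) (fun y ↦ z y.1 y.2)
  have hσp : ∀ q : MvPolynomial (Fin N₁) A, eval₂ (algebraMap A (AdicCompletion J A)) (fun j ↦ σ (p (X j))) q = σ (p q) := by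
    intro q
    have : (aeval (fun j ↦ σ (p (X j))) : MvPolynomial (Fin N₁) A →ₐ[A] AdicCompletion J A) = σ.comp p := by
      ext j
      simp
    exact DFunLike.congr_fun this q
  have hxh : ∀ k, eval₂ (algebraMap A (AdicCompletion J A)) xh (sys F h t k) = 0 := by
    rintro (j | i)
    · rw [eval₂_sys_inl]
      change eval₂ _ (fun j ↦ σ (p (X j))) (F j) = 0
      rw [hσp]
      have : p (F j) = 0 := by
        have : F j ∈ RingHom.ker p := by
          rw [← hF']
          exact Ideal.subset_span ⟨j, rfl⟩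
        exact this
      rw [this, map_zero]
    · rw [eval₂_sys_inr, sub_eq_zero, ← hz i]
      refine Finset.sum_congr rfl fun l _ ↦ ?_
      change _ = eval₂ _ (fun j ↦ σ (p (X j))) (h l) * z i l
      rw [hσp, hh]
  let P := max N n
  choose a ha using fun j ↦ Ideal.Quotient.mk_surjective (AdicCompletion.evalₐ J P (xh j))
  have ha' : ∀ k, eval₂ (algebraMap A A) a (sys F h t k) ∈ J ^ P := by
    intro k
    rw [← Ideal.Quotient.eq_zero_iff_mem, eval₂_comp_left (Ideal.Quotient.mk (J ^ P))]
    have h1 := eval₂_comp_left (AdicCompletion.evalₐ J P).toRingHom (algebraMap A (AdicCompletion J A)) xh (sys F h t k)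
    rw [hxh, map_zero] at h1
    rw [h1]
    congr 1
    exact funext fun j ↦ ha j
  obtain ⟨y, hy, hya⟩ := hN (RingHom.id A) (by rw [hmapid]; exact List.map_id ts) a (fun k ↦ by
    rw [hmapid, hts]
    exact Ideal.pow_le_pow_right (le_max_left _ _) (ha' k))
  rw [hmapid, hts] at hya
  let τ₀ : Q F →ₐ[A] A := Ideal.Quotient.liftₐ _ (aeval fun j ↦ y (Sum.inl j)) (by
    have : Ideal.span (Set.range F) ≤ RingHom.ker (aeval (R := A) fun j ↦ y (Sum.inl j)) := by
      rw [Ideal.span_le]
      rintro _ ⟨j, rfl⟩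
      have := hy (Sum.inl j)
      rw [eval₂_sys_inl] at this
      exact this
    exact fun q hq ↦ this hq)
  refine ⟨τ₀.comp e.symm.toAlgHom, ?_⟩
  have key : ((Ideal.Quotient.mkₐ A (J ^ n)).comp (τ₀.comp e.symm.toAlgHom)).comp p =
      ((AdicCompletion.evalₐ J n).comp σ).comp p := by
    ext j
    have h1 : e.symm (p (X j)) = Ideal.Quotient.mk _ (X j) := by
      rw [← he, AlgEquiv.symm_apply_apply]
    change Ideal.Quotient.mk (J ^ n) (τ₀ (e.symm (p (X j)))) = AdicCompletion.evalₐ J n (σ (p (X j)))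
    rw [h1]
    have h2 : τ₀ (Ideal.Quotient.mk _ (X j)) = y (Sum.inl j) := by
      change aeval (fun j ↦ y (Sum.inl j)) (X j) = _
      rw [aeval_X]
    rw [h2]
    have h3 : Ideal.Quotient.mk (J ^ n) (y (Sum.inl j)) = Ideal.Quotient.mk (J ^ n) (a (Sum.inl j)) :=
      Ideal.Quotient.eq.2 (hya _)
    rw [h3]
    have h4 := congrArg (Ideal.Quotient.factor (Ideal.pow_le_pow_right (le_max_right N n))) (ha (Sum.inl j))
    rw [Ideal.Quotient.factor_mk] at h4
    rw [h4]
    exact factor_evalₐ J (le_max_right N n) _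
  exact AlgHom.ext fun x ↦ by
    obtain ⟨q, rfl⟩ := hp x
    exact DFunLike.congr_fun key q

end Main

end K58.ElkikPt
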