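import Groth.Agent.CAlg.K58.OpenLift
import Groth.Agent.CAlg.K58.ElkikPt
import Mathlib.AlgebraicGeometry.Morphisms.Smooth

/-!
# Elkik's approximation theorem for quasi-affine schemes
-/

set_option autoImplicit false
universe u

open CategoryTheory AlgebraicGeometry

namespace K58.ElkikSch

open K58.RowPt K58.OpenLift

theorem formallySmooth_away {A C₀ : Type u} [CommRing A] [CommRing C₀] [Algebra A C₀]
    {D : Scheme.{u}} (j : D ⟶ Spec (CommRingCat.of C₀)) [IsOpenImmersion j]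
    [Smooth (j ≫ Spec.map (CommRingCat.ofHom (algebraMap A C₀)))] (h : C₀)
    (hh : ∀ c : PrimeSpectrum C₀, h ∉ c.asIdeal → c ∈ Set.range j) :
    Algebra.FormallySmooth A (Localization.Away h) := by
  have hr : Set.range (loc h) ⊆ Set.range j := by
    rw [range_loc]
    exact fun c hc ↦ hh c hc
  let s : Spec (CommRingCat.of (Localization.Away h)) ⟶ D := IsOpenImmersion.lift j (loc h) hr
  have hs : s ≫ j = loc h := IsOpenImmersion.lift_fac _ _ _
  have hso : IsOpenImmersion s := by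
    have : IsOpenImmersion (s ≫ j) := by rw [hs]; infer_instance
    exact IsOpenImmersion.of_comp _ j
  have h1 : Smooth (s ≫ j ≫ Spec.map (CommRingCat.ofHom (algebraMap A C₀))) := inferInstance
  have h2 : s ≫ j ≫ Spec.map (CommRingCat.ofHom (algebraMap A C₀)) =
      Spec.map (CommRingCat.ofHom (algebraMap A (Localization.Away h))) := by
    rw [← Category.assoc, hs, loc, ← spec_comp, ← IsScalarTower.algebraMap_eq]
  rw [h2, HasRingHomProperty.Spec_iff (P := @Smooth)] at h1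
  exact (RingHom.smooth_algebraMap.1 h1).formallySmooth

theorem notMem_of_zeroLocus {R : Type u} [CommRing R] (S : Set (PrimeSpectrum R)) (hS : IsClosed S)
    (x : PrimeSpectrum R) (h : PrimeSpectrum.vanishingIdeal S ≤ x.asIdeal) : x ∈ S := by
  have : x ∈ PrimeSpectrum.zeroLocus (PrimeSpectrum.vanishingIdeal S : Set R) := h
  rwa [PrimeSpectrum.zeroLocus_vanishingIdeal_eq_closure, hS.closure_eq] at this

theorem exists_pow_le {R : Type u} [CommRing R] (I K : Ideal R) (hI : I.FG)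
    (h : ∀ q : PrimeSpectrum R, K ≤ q.asIdeal → I ≤ q.asIdeal) : ∃ m : ℕ, I ^ m ≤ K := by
  refine Ideal.exists_pow_le_of_le_radical_of_fg ?_ hI
  rw [← PrimeSpectrum.zeroLocus_subset_zeroLocus_iff]
  exact fun q hq ↦ h q hq

theorem nak {A : Type u} [CommRing A] [IsNoetherianRing A] (J : Ideal A) (hJ : J ≤ Ideal.jacobson ⊥)
    (IT D' : Ideal A) (hJIT : J ≤ IT) (m' c : ℕ) (hc : m' + 1 ≤ c) (hle : IT ^ m' ≤ D' ⊔ J ^ c) : IT ^ m' ≤ D' := by
  have hJc : J ^ c ≤ J • IT ^ m' := by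
    have h1 : J ^ c ≤ J ^ (m' + 1) := Ideal.pow_le_pow_right hc
    refine h1.trans ?_
    rw [pow_succ', smul_eq_mul]
    exact Ideal.mul_mono_right (Ideal.pow_right_mono hJIT m')
  refine Submodule.le_of_le_smul_of_le_jacobson_bot (I := J) (IsNoetherian.noetherian _) hJ ?_
  exact hle.trans (sup_le_sup_left hJc _)

theorem le_of_cong {A : Type u} [CommRing A] (J : Ideal A) {C₀ : Type u} [CommRing C₀] [Algebra A C₀]
    (DW : Ideal C₀) (σ : C₀ →ₐ[A] AdicCompletion J A) (τ : C₀ →ₐ[A] A) (c : ℕ)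
    (hτ : (Ideal.Quotient.mkₐ A (J ^ c)).comp τ = (AdicCompletion.evalₐ J c).comp σ) (IT : Ideal A)
    (h : IT.map (algebraMap A (AdicCompletion J A)) ≤ DW.map σ.toRingHom) : IT ≤ DW.map τ.toRingHom ⊔ J ^ c := by
  intro a ha
  have h1 : algebraMap A (AdicCompletion J A) a ∈ DW.map σ.toRingHom := h (Ideal.mem_map_of_mem _ ha)
  have h2 := Ideal.mem_map_of_mem (AdicCompletion.evalₐ J c).toRingHom h1
  have h3 : (DW.map σ.toRingHom).map (AdicCompletion.evalₐ J c).toRingHom =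
      (DW.map τ.toRingHom).map (Ideal.Quotient.mk (J ^ c)) := by
    rw [Ideal.map_map, Ideal.map_map]
    congr 1
    ext x
    exact (DFunLike.congr_fun hτ x).symm
  rw [h3] at h2
  have h4 : (AdicCompletion.evalₐ J c).toRingHom (algebraMap A (AdicCompletion J A) a) = Ideal.Quotient.mk (J ^ c) a :=
    (AdicCompletion.evalₐ J c).commutes a
  rw [h4] at h2
  exact Ideal.mem_quotient_iff_mem_sup.1 h2

theorem factor_comp {A : Type u} [CommRing A] (J : Ideal A) {C₀ : Type u} [CommRing C₀] [Algebra A C₀]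
    (σ : C₀ →ₐ[A] AdicCompletion J A) (τ : C₀ →ₐ[A] A) {c n : ℕ} (hnc : n ≤ c)
    (hτ : (Ideal.Quotient.mkₐ A (J ^ c)).comp τ = (AdicCompletion.evalₐ J c).comp σ) :
    (Ideal.Quotient.mkₐ A (J ^ n)).comp τ = (AdicCompletion.evalₐ J n).comp σ := by
  refine AlgHom.ext fun z ↦ ?_
  have h1 : Ideal.Quotient.mk (J ^ c) (τ z) = AdicCompletion.evalₐ J c (σ z) := DFunLike.congr_fun hτ z
  have h2 := congrArg (Ideal.Quotient.factor (Ideal.pow_le_pow_right hnc)) h1
  rw [Ideal.Quotient.factor_mk, ElkikPt.factor_evalₐ J hnc] at h2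
  exact h2

section Pts

variable {A : Type u} [CommRing A] (U : (Spec (CommRingCat.of A)).Opens)
    {C₀ : Type u} [CommRing C₀] [Algebra A C₀] {W : Scheme.{u}}
    (i : W ⟶ Spec (CommRingCat.of C₀)) {Ah : Type u} [CommRing Ah] [Algebra A Ah]
    (σ : C₀ →ₐ[A] Ah)
    (y : ((Spec.map (CommRingCat.ofHom (algebraMap A Ah))) ⁻¹ᵁ U : Scheme.{u}) ⟶ W)
    (hy : y ≫ i = ((Spec.map (CommRingCat.ofHom (algebraMap A Ah))) ⁻¹ᵁ U).ι ≫
      Spec.map (CommRingCat.ofHom σ.toRingHom))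

include hy

theorem pts (q : Spec (CommRingCat.of Ah)) (hq : Spec.map (CommRingCat.ofHom (algebraMap A Ah)) q ∈ U) :
    ∃ w : W, i w = Spec.map (CommRingCat.ofHom σ.toRingHom) q ∧
      (i ≫ Spec.map (CommRingCat.ofHom (algebraMap A C₀))) w = Spec.map (CommRingCat.ofHom (algebraMap A Ah)) q := by
  refine ⟨y ⟨q, hq⟩, ?_, ?_⟩
  · have : (y ≫ i) ⟨q, hq⟩ = (((Spec.map (CommRingCat.ofHom (algebraMap A Ah))) ⁻¹ᵁ U).ι ≫
      Spec.map (CommRingCat.ofHom σ.toRingHom)) ⟨q, hq⟩ := by rw [hy]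
    exact this
  · have h1 : y ≫ i ≫ Spec.map (CommRingCat.ofHom (algebraMap A C₀)) =
        ((Spec.map (CommRingCat.ofHom (algebraMap A Ah))) ⁻¹ᵁ U).ι ≫ Spec.map (CommRingCat.ofHom (algebraMap A Ah)) := by
      rw [← Category.assoc, hy, Category.assoc, ← spec_comp]
      congr 3
      exact σ.comp_algebraMap
    have : (y ≫ i ≫ Spec.map (CommRingCat.ofHom (algebraMap A C₀))) ⟨q, hq⟩ =
        (((Spec.map (CommRingCat.ofHom (algebraMap A Ah))) ⁻¹ᵁ U).ι ≫ Spec.map (CommRingCat.ofHom (algebraMap A Ah))) ⟨q, hq⟩ := by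
      rw [h1]
    exact this

end Pts

/-- Points over the complement of `V(K)` land in the open set `S`. -/
theorem exists_pow_le_map {A C₀ Ah : Type u} [CommRing A] [IsNoetherianRing A] [CommRing C₀] [CommRing Ah] [Algebra A Ah]
    (σ : C₀ →+* Ah) (K : Ideal A) (S : Set (PrimeSpectrum C₀)) (hS : IsOpen S)
    (h : ∀ q : PrimeSpectrum Ah, ¬ K ≤ (PrimeSpectrum.comap (algebraMap A Ah) q).asIdeal → PrimeSpectrum.comap σ q ∈ S) :
    ∃ m : ℕ, (K.map (algebraMap A Ah)) ^ m ≤ (PrimeSpectrum.vanishingIdeal Sᶜ).map σ := by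
  refine exists_pow_le _ _ (Ideal.FG.map (IsNoetherian.noetherian K) _) fun q hq ↦ ?_
  by_contra hKq
  have h1 := h q fun h' ↦ hKq (Ideal.map_le_iff_le_comap.2 h')
  exact notMem_of_zeroLocus Sᶜ hS.isClosed_compl (PrimeSpectrum.comap σ q) (Ideal.map_le_iff_le_comap.1 hq) h1

theorem exists_section (A : Type u) [CommRing A] [IsNoetherianRing A] (J : Ideal A) [hen : HenselianRing A J]
    (U : (Spec (CommRingCat.of A)).Opens) (hU : ∀ q : PrimeSpectrum A, ¬ J ≤ q.asIdeal → q ∈ U)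
    (C₀ : Type u) [CommRing C₀] [Algebra A C₀] [Algebra.FiniteType A C₀] (W : Scheme.{u})
    (i : W ⟶ Spec (CommRingCat.of C₀)) [IsOpenImmersion i] (D : W.Opens)
    (hD : ∀ w : W, ¬ J ≤ ((i ≫ Spec.map (CommRingCat.ofHom (algebraMap A C₀))) w).asIdeal → w ∈ D)
    [hsm : Smooth (D.ι ≫ i ≫ Spec.map (CommRingCat.ofHom (algebraMap A C₀)))]
    (σ : C₀ →ₐ[A] AdicCompletion J A)
    (y : ((Spec.map (CommRingCat.ofHom (algebraMap A (AdicCompletion J A)))) ⁻¹ᵁ U : Scheme.{u}) ⟶ W)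
    (hy : y ≫ i = ((Spec.map (CommRingCat.ofHom (algebraMap A (AdicCompletion J A)))) ⁻¹ᵁ U).ι ≫
      Spec.map (CommRingCat.ofHom σ.toRingHom)) (n : ℕ) :
    ∃ (τ : C₀ →ₐ[A] A) (x : U.toScheme ⟶ W), x ≫ i = U.ι ≫ Spec.map (CommRingCat.ofHom τ.toRingHom) ∧
      (Ideal.Quotient.mkₐ A (J ^ n)).comp τ = (AdicCompletion.evalₐ J n).comp σ := by
  -- points of `O` and the open sets
  have hpt := pts U i σ y hy
  have hS₁ : IsOpen (Set.range (D.ι ≫ i)) := (D.ι ≫ i).isOpenEmbedding.isOpen_range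
  have hS₂ : IsOpen (Set.range i) := i.isOpenEmbedding.isOpen_range
  let H : Ideal C₀ := PrimeSpectrum.vanishingIdeal (Set.range (D.ι ≫ i))ᶜ
  let DW : Ideal C₀ := PrimeSpectrum.vanishingIdeal (Set.range i)ᶜ
  let IT : Ideal A := PrimeSpectrum.vanishingIdeal ((U : Set (Spec (CommRingCat.of A)))ᶜ)
  have hIT : ∀ q : PrimeSpectrum A, IT ≤ q.asIdeal → q ∉ U := fun q hq ↦
    notMem_of_zeroLocus _ U.isOpen.isClosed_compl q hq
  have hIT' : ∀ q : PrimeSpectrum A, q ∉ U → IT ≤ q.asIdeal := fun q hq x hx ↦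
    (PrimeSpectrum.mem_vanishingIdeal _ _).1 hx q hq
  have hJIT : J ≤ IT := by
    intro x hx
    rw [PrimeSpectrum.mem_vanishingIdeal]
    intro q hq
    by_contra hxq
    exact hq (hU q fun h ↦ hxq (h hx))
  -- smoothness
  have hH : ∀ h ∈ H, Algebra.FormallySmooth A (Localization.Away h) := by
    intro h hh
    have : Smooth ((D.ι ≫ i) ≫ Spec.map (CommRingCat.ofHom (algebraMap A C₀))) := by
      rw [Category.assoc]
      exact hsm
    refine formallySmooth_away (D.ι ≫ i) h fun c hc ↦ ?_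
    by_contra hcr
    exact hc ((PrimeSpectrum.mem_vanishingIdeal _ _).1 hh c hcr)
  obtain ⟨m, hm⟩ := exists_pow_le_map (Ah := AdicCompletion J A) σ.toRingHom J _ hS₁ (fun q hq ↦ by
    obtain ⟨w, hw1, hw2⟩ := hpt q (hU _ hq)
    refine ⟨⟨w, hD w (by rw [hw2]; exact hq)⟩, ?_⟩
    exact hw1)
  obtain ⟨m', hm'⟩ := exists_pow_le_map (Ah := AdicCompletion J A) σ.toRingHom IT _ hS₂ (fun q hq ↦ by
    obtain ⟨w, hw1, hw2⟩ := hpt q (by
      by_contra h
      exact hq (hIT' _ h))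
    exact ⟨w, hw1⟩)
  obtain ⟨τ, hτ⟩ := ElkikPt.exists_algHom A J C₀ H hH σ m (by rw [Ideal.map_pow]; exact hm) (max n (m' + 1))
  have hτn := factor_comp J σ τ (le_max_left n (m' + 1)) hτ
  have hle : IT ^ m' ≤ DW.map τ.toRingHom := by
    refine nak J hen.jac IT _ hJIT m' _ (le_max_right n (m' + 1)) ?_
    refine le_of_cong J DW σ τ _ hτ _ ?_
    rw [Ideal.map_pow]
    exact hm'
  have hrange : Set.range (U.ι ≫ Spec.map (CommRingCat.ofHom τ.toRingHom)) ⊆ Set.range i := by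
    rintro _ ⟨u, rfl⟩
    by_contra hu
    have h1 : DW ≤ (PrimeSpectrum.comap τ.toRingHom u.1).asIdeal := fun x hx ↦
      (PrimeSpectrum.mem_vanishingIdeal _ _).1 hx _ hu
    have h2 : DW.map τ.toRingHom ≤ u.1.asIdeal := Ideal.map_le_iff_le_comap.2 h1
    have h3 : IT ≤ u.1.asIdeal := u.1.isPrime.le_of_pow_le (hle.trans h2)
    exact hIT _ h3 u.2
  exact ⟨τ, IsOpenImmersion.lift i _ hrange, IsOpenImmersion.lift_fac _ _ _, hτn⟩

end K58.ElkikSch
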