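import Mathlib.RingTheory.DedekindDomain.IntegralClosure
import Mathlib.RingTheory.Localization.Integral
import Mathlib.RingTheory.Localization.FractionRing

/-!
# Integral generators of finite extensions of the fraction field of a domain
-/

set_option autoImplicit false
universe u

namespace K58.FinExt

/-- A finite extension `L` of the fraction field `K` of a domain `R` is the fraction field of a finite
subalgebra: there are finitely many integral elements `σ` such that every element of `L` becomes an element
of `R[σ]` after multiplication by a nonzero element of `R`. -/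
theorem exists_finset (R K L : Type u) [CommRing R] [IsDomain R] [Field K] [Algebra R K]
    [IsFractionRing R K] [Field L] [Algebra R L] [Algebra K L] [IsScalarTower R K L]
    [FiniteDimensional K L] :
    ∃ σ : Finset L, (∀ x ∈ σ, IsIntegral R x) ∧
      ∀ l : L, ∃ r : R, r ≠ 0 ∧ algebraMap R L r * l ∈ Algebra.adjoin R (σ : Set L) := by
  classical
  obtain ⟨s, b, hb⟩ := FiniteDimensional.exists_is_basis_integral R K L
  let σ : Finset L := Finset.univ.image b
  have hσ : ∀ x ∈ σ, IsIntegral R x := by
    intro x hx
    simp only [σ, Finset.mem_image, Finset.mem_univ, true_and] at hx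
    obtain ⟨i, rfl⟩ := hx
    exact hb i
  refine ⟨σ, hσ, fun l ↦ ?_⟩
  obtain ⟨⟨d, hd⟩, hd'⟩ := IsLocalization.exist_integer_multiples (nonZeroDivisors R)
    (Finset.univ : Finset s) (fun i ↦ b.repr l i)
  refine ⟨d, nonZeroDivisors.ne_zero hd, ?_⟩
  have h1 : algebraMap R L d * l = ∑ i, (algebraMap K L (algebraMap R K d * b.repr l i)) * b i := by
    conv_lhs => rw [← b.sum_repr l]
    rw [Finset.mul_sum]
    refine Finset.sum_congr rfl fun i _ ↦ ?_
    rw [Algebra.smul_def, map_mul, ← IsScalarTower.algebraMap_apply R K L]
    ring
  rw [h1]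
  refine Subalgebra.sum_mem _ fun i _ ↦ ?_
  obtain ⟨r, hr⟩ := hd' i (Finset.mem_univ i)
  have h2 : algebraMap R K d * b.repr l i = algebraMap R K r := by
    rw [hr, Algebra.smul_def]
  rw [h2, ← IsScalarTower.algebraMap_apply R K L]
  refine mul_mem (Subalgebra.algebraMap_mem _ r) (Algebra.subset_adjoin ?_)
  simp [σ]

end K58.FinExt
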