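import Groth.Agent.Ega4B.AnUnram
import Groth.Agent.S2125
import Mathlib.RingTheory.Flat.Localization
import Mathlib.RingTheory.Flat.Stability
import Mathlib.RingTheory.TensorProduct.Finite
import Mathlib.RingTheory.Ideal.MinimalPrime.Noetherian
import Mathlib.RingTheory.Noetherian.Nilpotent

/-!
# Finiteness of the integral closure of `B` in `(B ⊗ K')_red`

`A` a domain, `B` a flat Noetherian `A`-algebra with `B / q` Japanese for `q` minimal, `K'` a finite extension of
the fraction field of `A`: the integral closure of `B` in `(B ⊗[A] K')_red` is a finite `B`-module.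
-/

set_option autoImplicit false
universe u

namespace K58.FinRed

open TensorProduct

/-- Integral closure of `B` in a field generated by `B` and by a ring generated up to units by integral elements. -/
theorem finite_integralClosure_field (A B : Type u) [CommRing A] [CommRing B] [Algebra A B]
    (L : Type u) [CommRing L] [Algebra A L] (σ : Finset L) (hσ : ∀ x ∈ σ, IsIntegral A x)
    (hL : ∀ l : L, ∃ t ∈ Algebra.adjoin A (σ : Set L), IsUnit t ∧
      l * t ∈ Algebra.adjoin A (σ : Set L))
    (F : Type u) [Field F] [Algebra B F] (θ : B ⊗[A] L →ₐ[B] F)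
    (hgen : ∀ x : F, ∃ y z : B ⊗[A] L, θ z ≠ 0 ∧ x = θ y / θ z)
    (P : Ideal B) (hP : P = RingHom.ker (algebraMap B F)) (hPp : P.IsPrime)
    (hN : CAlg.IsN2 (B ⧸ P)) :
    Module.Finite B (integralClosure B F) := by
  classical
  let _ : Algebra (B ⧸ P) F := (Ideal.Quotient.lift P (algebraMap B F) (fun a ha ↦ by
    rw [hP] at ha; exact ha)).toAlgebra
  have : IsScalarTower B (B ⧸ P) F := IsScalarTower.of_algebraMap_eq (fun x ↦ rfl)
  have hinj : Function.Injective (algebraMap (B ⧸ P) F) := by
    rw [injective_iff_map_eq_zero]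
    intro x hx
    obtain ⟨x, rfl⟩ := Ideal.Quotient.mk_surjective x
    rw [Ideal.Quotient.eq_zero_iff_mem, hP]
    exact hx
  have : FaithfulSMul (B ⧸ P) F := (faithfulSMul_iff_algebraMap_injective _ _).2 hinj
  apply Groth.Agent.Ega4B.AnUnram.finite_integralClosure_of_quotient B F P
  let K := FractionRing (B ⧸ P)
  let _ : Algebra K F := FractionRing.liftAlgebra (B ⧸ P) F
  have : IsScalarTower (B ⧸ P) K F := FractionRing.isScalarTower_liftAlgebra _ _
  refine hN F ?_
  let φ : L →+* F := θ.toRingHom.comp (Algebra.TensorProduct.includeRight : L →ₐ[A] B ⊗[A] L).toRingHom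
  let S : Finset F := σ.image φ
  have hKF : ∀ a : B, algebraMap K F (algebraMap B K a) = algebraMap B F a := by
    intro a
    rw [IsScalarTower.algebraMap_apply B (B ⧸ P) K, ← IsScalarTower.algebraMap_apply (B ⧸ P) K F,
      ← IsScalarTower.algebraMap_apply B (B ⧸ P) F]
  have hφA : ∀ a : A, φ (algebraMap A L a) = algebraMap B F (algebraMap A B a) := by
    intro a
    have h1 : (Algebra.TensorProduct.includeRight : L →ₐ[A] B ⊗[A] L) (algebraMap A L a) =
        algebraMap B (B ⊗[A] L) (algebraMap A B a) := by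
      rw [AlgHom.commutes, ← IsScalarTower.algebraMap_apply]
    change θ ((Algebra.TensorProduct.includeRight : L →ₐ[A] B ⊗[A] L) (algebraMap A L a)) = _
    rw [h1, AlgHom.commutes]
  have hSint : ∀ x ∈ (S : Set F), IsIntegral K x := by
    intro x hx
    simp only [S, Finset.coe_image, Set.mem_image, Finset.mem_coe] at hx
    obtain ⟨y, hy, rfl⟩ := hx
    obtain ⟨f, hf, hfy⟩ := hσ y hy
    refine ⟨f.map ((algebraMap B K).comp (algebraMap A B)), hf.map _, ?_⟩
    rw [Polynomial.eval₂_map]
    have h1 : (algebraMap K F).comp ((algebraMap B K).comp (algebraMap A B)) =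
        φ.comp (algebraMap A L) := by
      ext a
      simp only [RingHom.comp_apply]
      rw [hφA, hKF]
    rw [h1, ← Polynomial.hom_eval₂, hfy, map_zero]
  have hfd : FiniteDimensional K (IntermediateField.adjoin K (S : Set F)) := by
    have : Finite (S : Set F) := S.finite_toSet
    exact IntermediateField.finiteDimensional_adjoin hSint
  have htop : IntermediateField.adjoin K (S : Set F) = ⊤ := by
    rw [eq_top_iff]
    have hA : ∀ a : B, algebraMap B F a ∈ IntermediateField.adjoin K (S : Set F) := by
      intro a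
      rw [← hKF]
      exact IntermediateField.algebraMap_mem _ _
    have hadj : ∀ l ∈ Algebra.adjoin A (σ : Set L), φ l ∈ IntermediateField.adjoin K (S : Set F) := by
      intro l hl
      induction hl using Algebra.adjoin_induction with
      | mem x hx =>
        apply IntermediateField.subset_adjoin
        simp only [S, Finset.coe_image]
        exact ⟨x, hx, rfl⟩
      | algebraMap a => rw [hφA]; exact hA _
      | add x y _ _ hx hy => rw [map_add]; exact add_mem hx hy
      | mul x y _ _ hx hy => rw [map_mul]; exact mul_mem hx hy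
    have hLm : ∀ l : L, φ l ∈ IntermediateField.adjoin K (S : Set F) := by
      intro l
      obtain ⟨t, ht, htu, hlt⟩ := hL l
      have h1 : φ t ≠ 0 := (htu.map φ).ne_zero
      have h2 : φ l = φ (l * t) / φ t := by rw [map_mul, mul_div_cancel_right₀ _ h1]
      rw [h2]
      exact div_mem (hadj _ hlt) (hadj _ ht)
    have hD : ∀ d : B ⊗[A] L, θ d ∈ IntermediateField.adjoin K (S : Set F) := by
      intro d
      induction d using TensorProduct.induction_on with
      | zero => rw [map_zero]; exact zero_mem _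
      | tmul a l =>
        have h1 : (a ⊗ₜ[A] l : B ⊗[A] L) = algebraMap B (B ⊗[A] L) a * (1 ⊗ₜ[A] l) := by
          rw [Algebra.TensorProduct.algebraMap_apply, Algebra.TensorProduct.tmul_mul_tmul, mul_one,
            one_mul]
          rfl
        rw [h1, map_mul, AlgHom.commutes]
        exact mul_mem (hA a) (hLm l)
      | add x y hx hy => rw [map_add]; exact add_mem hx hy
    intro x _
    obtain ⟨y, z, _, rfl⟩ := hgen x
    exact div_mem (hD y) (hD z)
  rw [htop] at hfd
  exact IntermediateField.topEquiv.toLinearEquiv.finiteDimensional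

/-- The integral closure of `B` in `(B ⊗ L)_red` is finite over `B`. -/
theorem finite_integralClosure_red (A B : Type u) [CommRing A] [CommRing B] [Algebra A B]
    [IsNoetherianRing B]
    (hJ : ∀ (q : Ideal B) [q.IsPrime], q ∈ minimalPrimes B → CAlg.IsN2 (B ⧸ q))
    (L : Type u) [CommRing L] [Algebra A L] [Module.Flat A L] (σ : Finset L) (hσ : ∀ x ∈ σ, IsIntegral A x)
    (hL : ∀ l : L, ∃ t ∈ Algebra.adjoin A (σ : Set L), IsUnit t ∧
      l * t ∈ Algebra.adjoin A (σ : Set L)) :
    Module.Finite B (integralClosure B ((B ⊗[A] L) ⧸ nilradical (B ⊗[A] L))) := by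
  have : Algebra.EssFiniteType A L := (Algebra.essFiniteType_iff A L).2 ⟨σ, hL⟩
  have : IsNoetherianRing (B ⊗[A] L) := Algebra.EssFiniteType.isNoetherianRing B _
  have : IsReduced ((B ⊗[A] L) ⧸ nilradical (B ⊗[A] L)) := by
    rw [← Ideal.isRadical_iff_quotient_reduced]
    exact Ideal.radical_isRadical _
  apply Groth.Agent.Ega4B.AnUnram.finite_integralClosure_of_minimalPrimes
  intro Q hQ
  have hQp : Q.IsPrime := hQ.1.1
  let W := B ⊗[A] L
  let D := W ⧸ nilradical W
  let F := FractionRing (D ⧸ Q)
  let θ : W →ₐ[B] F := (IsScalarTower.toAlgHom B (D ⧸ Q) F).comp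
    ((Ideal.Quotient.mkₐ B Q).comp (Ideal.Quotient.mkₐ B (nilradical W)))
  have hθ : ∀ w : W, θ w = algebraMap (D ⧸ Q) F (Ideal.Quotient.mk Q (Ideal.Quotient.mk (nilradical W) w)) :=
    fun _ ↦ rfl
  let Q' : Ideal W := Q.comap (Ideal.Quotient.mk (nilradical W))
  have hQ' : Q' ∈ minimalPrimes W := by
    refine ⟨⟨Ideal.comap_isPrime _ _, bot_le⟩, ?_⟩
    intro q hq hqQ
    have hnil : nilradical W ≤ q := by have := hq.1; exact nilradical_le_prime q
    have h1 : q.map (Ideal.Quotient.mk (nilradical W)) ≤ Q := by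
      rw [Ideal.map_le_iff_le_comap]; exact hqQ
    have hqp : (q.map (Ideal.Quotient.mk (nilradical W))).IsPrime := by
      have := hq.1
      exact Ideal.map_isPrime_of_surjective Ideal.Quotient.mk_surjective (by rwa [Ideal.mk_ker])
    have h2 : Q ≤ q.map (Ideal.Quotient.mk (nilradical W)) := hQ.2 ⟨hqp, bot_le⟩ h1
    calc Q' ≤ (q.map (Ideal.Quotient.mk (nilradical W))).comap (Ideal.Quotient.mk (nilradical W)) :=
          Ideal.comap_mono h2
      _ = q := by
          rw [Ideal.comap_map_of_surjective _ Ideal.Quotient.mk_surjective]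
          simpa [← RingHom.ker_eq_comap_bot, Ideal.mk_ker] using hnil
  let P : Ideal B := Q'.comap (algebraMap B W)
  have hPmin : P ∈ minimalPrimes B := Groth.Agent.S2125.comap_mem_minimalPrimes hQ'
  have hPp : P.IsPrime := hPmin.1.1
  have hPker : P = RingHom.ker (algebraMap B F) := by
    ext b
    rw [RingHom.mem_ker, IsScalarTower.algebraMap_apply B (D ⧸ Q) F, FaithfulSMul.algebraMap_eq_zero_iff]
    change Ideal.Quotient.mk (nilradical W) (algebraMap B W b) ∈ Q ↔ _
    rw [← Ideal.Quotient.eq_zero_iff_mem]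
    rfl
  refine finite_integralClosure_field A B L σ hσ hL F θ ?_ P hPker hPp (hJ P hPmin)
  intro x
  obtain ⟨y, z, hz, rfl⟩ := IsFractionRing.div_surjective (A := D ⧸ Q) x
  obtain ⟨y, rfl⟩ := Ideal.Quotient.mk_surjective y
  obtain ⟨y, rfl⟩ := Ideal.Quotient.mk_surjective y
  obtain ⟨z, rfl⟩ := Ideal.Quotient.mk_surjective z
  obtain ⟨z, rfl⟩ := Ideal.Quotient.mk_surjective z
  refine ⟨y, z, ?_, rfl⟩
  rw [hθ, Ne, FaithfulSMul.algebraMap_eq_zero_iff]
  exact nonZeroDivisors.ne_zero hz

end K58.FinRed
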