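import Groth.Agent.CAlg.K58.RowPt
import Mathlib.AlgebraicGeometry.Noetherian

/-!
# Morphisms from an open subscheme of `Spec B` to `P^N_ℤ` are given by matrices of rank one

`exists_matrix`: `B` Noetherian, `O` open in `Spec B`, `p : O ⟶ P^N_ℤ`. There is a matrix `w` over `B` with vanishing
`2 × 2` minors whose rows give `p`, with some entry invertible at every point of `O`.
-/

set_option autoImplicit false
universe u

open CategoryTheory AlgebraicGeometry MvPolynomial

namespace K58.MatPt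

open Groth.Agent.Sga5.ProjChart Groth.Agent.Sga7.H132.ProjPts K58.ZPt K58.RowPt

variable {N : ℕ} {B : Type u} [CommRing B]

theorem exists_local (O : (Spec (CommRingCat.of B)).Opens) (p : O.toScheme ⟶ CohB1.ProjSpace N Z.{u}) (x : O) :
    ∃ (f : B) (_ : f ∉ x.1.asIdeal) (_ : ∀ y : PrimeSpectrum B, f ∉ y.asIdeal → y ∈ O) (j : Fin (N + 1))
      (c : Fin (N + 1) → Localization.Away f) (hc : IsUnit (c j)),
      ∀ s : Spec (CommRingCat.of (Localization.Away f)) ⟶ O.toScheme, s ≫ O.ι = loc f → s ≫ p = pt c j hc := by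
  obtain ⟨j, hj⟩ := exists_mem_range N Z.{u} (p x)
  let V : O.toScheme.Opens := p ⁻¹ᵁ (chart N Z.{u} j).opensRange
  have hx : x.1 ∈ O.ι ''ᵁ V := ⟨x, hj, rfl⟩
  obtain ⟨_, ⟨_, ⟨f, rfl⟩, rfl⟩, hxf, hf⟩ := (PrimeSpectrum.isBasis_basic_opens (R := B)).exists_subset_of_mem_open hx
    (O.ι ''ᵁ V).isOpen
  have hfO : ∀ y : PrimeSpectrum B, f ∉ y.asIdeal → ∃ z : O, z ∈ V ∧ z.1 = y := fun y hy ↦ by
    obtain ⟨z, hz, hzy⟩ := hf (show y ∈ ((PrimeSpectrum.basicOpen f : TopologicalSpace.Opens _) : Set _) from hy)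
    exact ⟨z, hz, hzy⟩
  have hr : Set.range (loc f) ⊆ Set.range O.ι := by
    rw [range_loc, Scheme.Opens.range_ι]
    intro y hy
    obtain ⟨z, -, hz⟩ := hfO y hy
    rw [← hz]
    exact z.2
  let s : Spec (CommRingCat.of (Localization.Away f)) ⟶ O.toScheme := IsOpenImmersion.lift O.ι (loc f) hr
  have hs : s ≫ O.ι = loc f := IsOpenImmersion.lift_fac _ _ _
  have hr2 : Set.range (s ≫ p) ⊆ Set.range (chart N Z.{u} j) := by
    rintro _ ⟨y, rfl⟩
    have h1 : f ∉ (loc f y).asIdeal := by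
      have : loc f y ∈ Set.range (loc f) := ⟨y, rfl⟩
      rw [range_loc] at this
      exact this
    obtain ⟨z, hz, hzy⟩ := hfO _ h1
    have h2 : s y = z := by
      apply Subtype.ext
      have : O.ι (s y) = loc f y := by rw [← hs]; rfl
      rw [hzy]
      exact this
    change p (s y) ∈ _
    rw [h2]
    exact hz
  let q : Spec (CommRingCat.of (Localization.Away f)) ⟶ Spec (CommRingCat.of (Chart N Z.{u} j)) :=
    IsOpenImmersion.lift (chart N Z.{u} j) (s ≫ p) hr2
  have hq : q ≫ chart N Z.{u} j = s ≫ p := IsOpenImmersion.lift_fac _ _ _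
  obtain ⟨χ, hχ⟩ := Spec.map_surjective q
  obtain ⟨h, hh⟩ := spec_chart χ.hom
  refine ⟨f, hxf, fun y hy ↦ ?_, j, fun l ↦ χ.hom (coord N Z.{u} j l), h, fun s' hs' ↦ ?_⟩
  · obtain ⟨z, -, hz⟩ := hfO y hy
    rw [← hz]
    exact z.2
  · have : s' = s := by rw [← cancel_mono O.ι, hs', hs]
    rw [this, ← hq, ← hh, ← hχ]
    rfl

theorem exists_local' (O : (Spec (CommRingCat.of B)).Opens) (p : O.toScheme ⟶ CohB1.ProjSpace N Z.{u}) (x : O) :
    ∃ (f : B) (_ : f ∉ x.1.asIdeal) (_ : ∀ y : PrimeSpectrum B, f ∉ y.asIdeal → y ∈ O) (j : Fin (N + 1))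
      (c : Fin (N + 1) → Localization.Away f) (hc : IsUnit (c j)) (v : Fin (N + 1) → B) (k : ℕ)
      (_ : ∀ l, algebraMap B (Localization.Away f) (v l) = algebraMap B (Localization.Away f) f ^ k * c l)
      (_ : ∀ y : PrimeSpectrum B, f ∉ y.asIdeal → v j ∉ y.asIdeal),
      ∀ s : Spec (CommRingCat.of (Localization.Away f)) ⟶ O.toScheme, s ≫ O.ι = loc f → s ≫ p = pt c j hc := by
  obtain ⟨f, hf, hfO, j, c, hc, h⟩ := exists_local O p x
  obtain ⟨⟨_, k, rfl⟩, hb⟩ := IsLocalization.exist_integer_multiples (Submonoid.powers f) Finset.univ c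
  choose v hv using fun l ↦ hb l (Finset.mem_univ l)
  have hv' : ∀ l, algebraMap B (Localization.Away f) (v l) = algebraMap B (Localization.Away f) f ^ k * c l := by
    intro l
    rw [hv]
    change (f ^ k) • c l = _
    rw [Algebra.smul_def, map_pow]
  refine ⟨f, hf, hfO, j, c, hc, v, k, hv', fun y hy hvy ↦ ?_, h⟩
  have hy' : y ∈ Set.range (loc f) := by rw [range_loc]; exact hy
  obtain ⟨z, rfl⟩ := hy'
  have hu : IsUnit (algebraMap B (Localization.Away f) (v j)) := by
    rw [hv']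
    exact ((IsLocalization.Away.algebraMap_isUnit f).pow k).mul hc
  exact z.isPrime.ne_top (Ideal.eq_top_of_isUnit_mem _ hvy hu)

theorem exists_matrix [IsNoetherianRing B] (O : (Spec (CommRingCat.of B)).Opens)
    (p : O.toScheme ⟶ CohB1.ProjSpace N Z.{u}) :
    ∃ (r : ℕ) (w : Fin r → Fin (N + 1) → B), (∀ a b i j, w a i * w b j = w a j * w b i) ∧ IsRow O.ι w p ∧
      ∀ x : O, ∃ a j, w a j ∉ x.1.asIdeal := by
  choose f hf hfO j c hc v k hv hvj hs using exists_local' O p
  obtain ⟨t, ht⟩ := (TopologicalSpace.NoetherianSpace.isCompact (show Set (PrimeSpectrum B) from O.carrier)).elim_finite_subcover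
    (fun x : O ↦ ((PrimeSpectrum.basicOpen (f x) : TopologicalSpace.Opens _) : Set (PrimeSpectrum B)))
    (fun x ↦ (PrimeSpectrum.basicOpen (f x)).isOpen) (fun y hy ↦ Set.mem_iUnion.2 ⟨⟨y, hy⟩, hf ⟨y, hy⟩⟩)
  let e : Fin t.card → O := fun a ↦ (t.equivFin.symm a).1
  have he : ∀ y ∈ O, ∃ a, f (e a) ∉ y.asIdeal := by
    intro y hy
    obtain ⟨x, hx, hxy⟩ := Set.mem_iUnion₂.1 (ht hy)
    refine ⟨t.equivFin ⟨x, hx⟩, ?_⟩
    simp only [e, Equiv.symm_apply_apply]
    exact hxy
  -- lifts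
  have hex : ∀ a, ∃ s : Spec (CommRingCat.of (Localization.Away (f a))) ⟶ O.toScheme, s ≫ O.ι = loc (f a) := by
    intro a
    exact ⟨IsOpenImmersion.lift O.ι (loc (f a)) (by
      rw [range_loc, Scheme.Opens.range_ι]
      exact fun y hy ↦ hfO a y hy), IsOpenImmersion.lift_fac _ _ _⟩
  -- cross relations
  have hcross : ∀ a b i l, ∃ n : ℕ, (f a * f b) ^ n * (v a i * v b l - v a l * v b i) = 0 := by
    intro a b i l
    let g := f a * f b
    let C := Localization.Away g
    have hg : IsUnit (algebraMap B C g) := IsLocalization.Away.algebraMap_isUnit g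
    have hga : IsUnit (algebraMap B C (f a)) := isUnit_of_mul_isUnit_left (y := algebraMap B C (f b)) (by
      rw [← map_mul]; exact hg)
    have hgb : IsUnit (algebraMap B C (f b)) := isUnit_of_mul_isUnit_right (x := algebraMap B C (f a)) (by
      rw [← map_mul]; exact hg)
    let ψa : Localization.Away (f a) →+* C := IsLocalization.Away.lift (f a) hga
    let ψb : Localization.Away (f b) →+* C := IsLocalization.Away.lift (f b) hgb
    have hψa : ∀ x, ψa (algebraMap B _ x) = algebraMap B C x := fun x ↦ IsLocalization.Away.lift_eq (f a) hga x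
    have hψb : ∀ x, ψb (algebraMap B _ x) = algebraMap B C x := fun x ↦ IsLocalization.Away.lift_eq (f b) hgb x
    obtain ⟨sa, hsa⟩ := hex a
    obtain ⟨sb, hsb⟩ := hex b
    have h1 : Spec.map (CommRingCat.ofHom ψa) ≫ sa = Spec.map (CommRingCat.ofHom ψb) ≫ sb := by
      rw [← cancel_mono O.ι, Category.assoc, Category.assoc, hsa, hsb, ← Spec.map_comp, ← Spec.map_comp,
        ← CommRingCat.ofHom_comp, ← CommRingCat.ofHom_comp]
      congr 2
      ext x
      exact (hψa x).trans (hψb x).symm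
    have h2 := congr($h1 ≫ p)
    rw [Category.assoc, Category.assoc, hs a sa hsa, hs b sb hsb,
      spec_pt ψa _ _ _ ((hc a).map ψa), spec_pt ψb _ _ _ ((hc b).map ψb)] at h2
    have h3 := pt_cross _ _ _ _ _ _ h2 i l
    have h4 : algebraMap B C (v a i * v b l - v a l * v b i) = 0 := by
      rw [map_sub, map_mul, map_mul, ← hψa, ← hψb, ← hψa (v a l), ← hψb (v b i), hv, hv, hv, hv, map_mul, map_mul,
        map_mul, map_mul]
      linear_combination (ψa (algebraMap B _ (f a) ^ k a) * ψb (algebraMap B _ (f b) ^ k b)) * h3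
    obtain ⟨⟨_, n, rfl⟩, hn⟩ := (IsLocalization.map_eq_zero_iff (Submonoid.powers g) C _).1 h4
    exact ⟨n, hn⟩
  choose n hn using hcross
  let q : ℕ := Finset.univ.sup fun a ↦ Finset.univ.sup fun b ↦ Finset.univ.sup fun i ↦ Finset.univ.sup fun l ↦
    n (e a) (e b) i l
  have hq : ∀ a b i l, n (e a) (e b) i l ≤ q := by
    intro a b i l
    refine le_trans ?_ (Finset.le_sup (f := fun a ↦ Finset.univ.sup fun b ↦ Finset.univ.sup fun i ↦
      Finset.univ.sup fun l ↦ n (e a) (e b) i l) (Finset.mem_univ a))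
    refine le_trans ?_ (Finset.le_sup (f := fun b ↦ Finset.univ.sup fun i ↦
      Finset.univ.sup fun l ↦ n (e a) (e b) i l) (Finset.mem_univ b))
    refine le_trans ?_ (Finset.le_sup (f := fun i ↦ Finset.univ.sup fun l ↦ n (e a) (e b) i l) (Finset.mem_univ i))
    exact Finset.le_sup (f := fun l ↦ n (e a) (e b) i l) (Finset.mem_univ l)
  refine ⟨t.card, fun a l ↦ f (e a) ^ (q + 1) * v (e a) l, fun a b i l ↦ ?_, ?_, ?_⟩
  · have h1 : (f (e a) * f (e b)) ^ (q + 1) * (v (e a) i * v (e b) l - v (e a) l * v (e b) i) = 0 := by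
      have h2 : q + 1 = (q + 1 - n (e a) (e b) i l) + n (e a) (e b) i l := by
        have := hq a b i l
        omega
      rw [h2, pow_add, mul_assoc, hn, mul_zero]
    linear_combination h1
  · intro C _ ψ a j' h g hg
    have hfa : IsUnit (ψ (f (e a))) := by
      rw [map_mul, map_pow] at h
      exact (isUnit_pow_succ_iff.1 (isUnit_of_mul_isUnit_left h))
    let ψ' : Localization.Away (f (e a)) →+* C := IsLocalization.Away.lift (f (e a)) hfa
    have hψ' : ∀ x, ψ' (algebraMap B _ x) = ψ x := fun x ↦ IsLocalization.Away.lift_eq (f (e a)) hfa x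
    obtain ⟨sa, hsa⟩ := hex (e a)
    have h1 : g = Spec.map (CommRingCat.ofHom ψ') ≫ sa := by
      rw [← cancel_mono O.ι, hg, Category.assoc, hsa, ← Spec.map_comp, ← CommRingCat.ofHom_comp]
      congr 2
      ext x
      exact (hψ' x).symm
    rw [h1, Category.assoc, hs (e a) sa hsa, spec_pt ψ' _ _ _ ((hc (e a)).map ψ')]
    refine pt_eq _ _ _ _ _ _ (ψ (f (e a)) ^ (q + 1 + k (e a))) fun l ↦ ?_
    rw [map_mul, map_pow, ← hψ' (v (e a) l), hv, map_mul, map_pow, hψ', pow_add]
    ring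
  · intro x
    obtain ⟨a, ha⟩ := he x.1 x.2
    refine ⟨a, j (e a), fun h ↦ ?_⟩
    rcases x.1.isPrime.mem_or_mem h with h1 | h1
    · exact ha (x.1.isPrime.mem_of_pow_mem _ h1)
    · exact hvj (e a) x.1 ha h1

end K58.MatPt
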