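import Mathlib.RingTheory.Noetherian.Basic
import Mathlib.RingTheory.Ideal.Operations
import Mathlib.RingTheory.Ideal.Prime
import Mathlib.RingTheory.Ideal.Quotient.Operations
import Mathlib.RingTheory.Ideal.Quotient.Noetherian

/-!
# Uniform bounds over all fields by Noetherian induction on a parameter ring
-/

set_option autoImplicit false
universe u

namespace K58.NoethBd

/-- Noetherian induction for uniform bounds: `P k φ R` is a property of a field `k` over `A` and a bound `R`, stable
under increasing `R`. If for every prime `p` there are `a ∉ p` and a bound valid for all `(k, φ)` with `p ≤ ker φ`,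
`φ a ≠ 0`, then there is a bound valid for all `(k, φ)`. -/
theorem exists_bound {A : Type u} [CommRing A] [IsNoetherianRing A]
    (P : ∀ (k : Type u) [Field k], (A →+* k) → ℕ → Prop)
    (hmono : ∀ (k : Type u) [Field k] (φ : A →+* k) (R R' : ℕ), R ≤ R' → P k φ R → P k φ R')
    (hstep : ∀ p : Ideal A, p.IsPrime → ∃ a : A, a ∉ p ∧ ∃ R : ℕ, ∀ (k : Type u) [Field k] (φ : A →+* k),
      p ≤ RingHom.ker φ → φ a ≠ 0 → P k φ R) :
    ∃ R : ℕ, ∀ (k : Type u) [Field k] (φ : A →+* k), P k φ R := by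
  have key : ∀ I : Ideal A, ∃ R : ℕ, ∀ (k : Type u) [Field k] (φ : A →+* k), I ≤ RingHom.ker φ → P k φ R := by
    have wf : WellFounded ((· > ·) : Ideal A → Ideal A → Prop) := IsWellFounded.wf
    intro I
    induction I using wf.induction with
    | _ I ih =>
    by_cases hI : I.IsPrime
    · obtain ⟨a, ha, R₁, h₁⟩ := hstep I hI
      obtain ⟨R₂, h₂⟩ := ih (I ⊔ Ideal.span {a}) (by
        refine lt_of_le_of_ne le_sup_left fun h ↦ ha ?_
        rw [h]
        exact (le_sup_right : Ideal.span {a} ≤ _) (Ideal.mem_span_singleton_self a))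
      refine ⟨max R₁ R₂, fun k _ φ hφ ↦ ?_⟩
      by_cases h : φ a = 0
      · refine hmono k φ R₂ _ (le_max_right _ _) (h₂ k φ (sup_le hφ ?_))
        rw [Ideal.span_singleton_le_iff_mem]
        exact h
      · exact hmono k φ R₁ _ (le_max_left _ _) (h₁ k φ hφ h)
    · by_cases htop : I = ⊤
      · refine ⟨0, fun k _ φ hφ ↦ ?_⟩
        exfalso
        have h1 : (1 : A) ∈ RingHom.ker φ := hφ (htop ▸ Submodule.mem_top)
        rw [RingHom.mem_ker, map_one] at h1
        exact one_ne_zero h1
      · have : ∃ x y : A, x ∉ I ∧ y ∉ I ∧ x * y ∈ I := by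
          by_contra hcon
          push Not at hcon
          refine hI ⟨htop, fun {x y} hxy ↦ ?_⟩
          by_contra hor
          rw [not_or] at hor
          exact hcon x y hor.1 hor.2 hxy
        obtain ⟨x, y, hx, hy, hxy⟩ := this
        have hlt : ∀ z : A, z ∉ I → I < I ⊔ Ideal.span {z} := by
          intro z hz
          refine lt_of_le_of_ne le_sup_left fun h ↦ hz ?_
          rw [h]
          exact (le_sup_right : Ideal.span {z} ≤ _) (Ideal.mem_span_singleton_self z)
        obtain ⟨R₁, h₁⟩ := ih _ (hlt x hx)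
        obtain ⟨R₂, h₂⟩ := ih _ (hlt y hy)
        refine ⟨max R₁ R₂, fun k _ φ hφ ↦ ?_⟩
        have h3 : φ x * φ y = 0 := by
          rw [← map_mul]
          exact hφ hxy
        rcases mul_eq_zero.1 h3 with h4 | h4
        · refine hmono k φ R₁ _ (le_max_left _ _) (h₁ k φ (sup_le hφ ?_))
          rw [Ideal.span_singleton_le_iff_mem]
          exact h4
        · refine hmono k φ R₂ _ (le_max_right _ _) (h₂ k φ (sup_le hφ ?_))
          rw [Ideal.span_singleton_le_iff_mem]
          exact h4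
  obtain ⟨R, hR⟩ := key ⊥
  exact ⟨R, fun k _ φ ↦ hR k φ bot_le⟩

/-- Variant where the step is stated for the domains `A ⧸ p`. -/
theorem exists_bound' {A : Type u} [CommRing A] [IsNoetherianRing A]
    (P : ∀ (k : Type u) [Field k], (A →+* k) → ℕ → Prop)
    (hmono : ∀ (k : Type u) [Field k] (φ : A →+* k) (R R' : ℕ), R ≤ R' → P k φ R → P k φ R')
    (hstep : ∀ (D : Type u) [CommRing D] [IsDomain D] [IsNoetherianRing D] (π : A →+* D),
      ∃ a : D, a ≠ 0 ∧ ∃ R : ℕ, ∀ (k : Type u) [Field k] (φ : D →+* k),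
      φ a ≠ 0 → P k (φ.comp π) R) :
    ∃ R : ℕ, ∀ (k : Type u) [Field k] (φ : A →+* k), P k φ R := by
  refine exists_bound P hmono fun p hp ↦ ?_
  obtain ⟨a, ha, R, hR⟩ := hstep (A ⧸ p) (Ideal.Quotient.mk p)
  obtain ⟨a, rfl⟩ := Ideal.Quotient.mk_surjective a
  refine ⟨a, fun h ↦ ha (Ideal.Quotient.eq_zero_iff_mem.2 h), R, fun k _ φ hφ hφa ↦ ?_⟩
  have h1 := hR k (Ideal.Quotient.lift p φ fun x hx ↦ hφ hx) (by
    rw [Ideal.Quotient.lift_mk]
    exact hφa)
  have h2 : (Ideal.Quotient.lift p φ fun x hx ↦ hφ hx).comp (Ideal.Quotient.mk p) = φ := by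
    ext x
    simp
  rw [h2] at h1
  exact h1

end K58.NoethBd
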