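import Groth.Agent.CAlg.K58.RowPt
import Mathlib.AlgebraicGeometry.Morphisms.Immersion
import Mathlib.AlgebraicGeometry.Morphisms.FlatMono
import Mathlib.AlgebraicGeometry.Noetherian

/-!
# Lifting points to the closure of a locally closed subscheme, up to torsion

`exists_open`: `i : W ⟶ Spec P` an immersion over `U ⊆ Spec A`, `O` the preimage of `U` in `Spec Ah`, `y : O ⟶ W` over
`σ₀ : P ⟶ Ah`. There is a quotient `C₀` of `P` such that `W` is open in `Spec C₀` and `σ₀` factors over `C₀`.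
-/

set_option autoImplicit false
universe u

open CategoryTheory AlgebraicGeometry

namespace K58.OpenLift

open K58.RowPt

theorem spec_comp {R S T : Type u} [CommRing R] [CommRing S] [CommRing T] (f : R →+* S) (g : S →+* T) :
    Spec.map (CommRingCat.ofHom (g.comp f)) = Spec.map (CommRingCat.ofHom g) ≫ Spec.map (CommRingCat.ofHom f) := by
  rw [← Spec.map_comp, ← CommRingCat.ofHom_comp]

/-- A quotient map which becomes an isomorphism after inverting `t`. -/
theorem isLocalization_of_quotient {R S : Type u} [CommRing R] [CommRing S] (j : R →+* S)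
    (hj : Function.Surjective j) (t : R) (hk : ∀ x, j x = 0 → ∃ n : ℕ, t ^ n * x = 0) (L : Type u) [CommRing L]
    [Algebra S L] [IsLocalization.Away (j t) L] [Algebra R L] (hL : ∀ x, algebraMap R L x = algebraMap S L (j x)) :
    IsLocalization.Away t L where
  map_units := by
    rintro ⟨_, n, rfl⟩
    change IsUnit (algebraMap R L (t ^ n))
    rw [map_pow, hL]
    exact (IsLocalization.Away.algebraMap_isUnit (j t)).pow n
  surj z := by
    obtain ⟨⟨s, ⟨_, n, rfl⟩⟩, hs⟩ := IsLocalization.surj (Submonoid.powers (j t)) z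
    obtain ⟨x, rfl⟩ := hj s
    refine ⟨⟨x, ⟨_, n, rfl⟩⟩, ?_⟩
    change z * algebraMap R L (t ^ n) = algebraMap R L x
    rw [hL, hL, map_pow, ← hs]
  exists_of_eq {x y} h := by
    rw [hL, hL] at h
    obtain ⟨⟨_, n, rfl⟩, hn⟩ := IsLocalization.exists_of_eq (M := Submonoid.powers (j t)) h
    obtain ⟨m, hm⟩ := hk (t ^ n * (x - y)) (by
      rw [map_mul, map_pow, map_sub, mul_sub, sub_eq_zero]
      exact hn)
    refine ⟨⟨_, m + n, rfl⟩, ?_⟩
    change t ^ (m + n) * x = t ^ (m + n) * y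
    rw [← sub_eq_zero, ← mul_sub, pow_add, mul_assoc]
    exact hm

theorem isOpenImmersion_of_local {W Y : Scheme.{u}} (f : W ⟶ Y) [Mono f]
    (h : ∀ w : W, ∃ V : W.Opens, w ∈ V ∧ IsOpenImmersion (V.ι ≫ f)) : IsOpenImmersion f := by
  choose V hV hf using h
  have hc : ⨆ x, V x = ⊤ := by
    rw [eq_top_iff]
    intro x _
    exact TopologicalSpace.Opens.mem_iSup.2 ⟨x, hV x⟩
  have h1 : Flat f := by
    rw [IsZariskiLocalAtSource.iff_of_iSup_eq_top (P := @Flat) V hc]
    intro x
    have := hf x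
    infer_instance
  have h2 : LocallyOfFinitePresentation f := by
    rw [IsZariskiLocalAtSource.iff_of_iSup_eq_top (P := @LocallyOfFinitePresentation) V hc]
    intro x
    have := hf x
    infer_instance
  exact IsOpenImmersion.of_flat_of_mono f

theorem exists_open (A : Type u) [CommRing A] [IsNoetherianRing A] (P : Type u) [CommRing P] [Algebra A P]
    [Algebra.FiniteType A P] (Ah : Type u) [CommRing Ah] [Algebra A Ah]
    (U : (Spec (CommRingCat.of A)).Opens)
    (W : Scheme.{u}) (i : W ⟶ Spec (CommRingCat.of P)) [IsImmersion i]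
    (hi : ∀ w : W, (i ≫ Spec.map (CommRingCat.ofHom (algebraMap A P))) w ∈ U)
    (σ₀ : P →ₐ[A] Ah) (O : (Spec (CommRingCat.of Ah)).Opens)
    (hO : ∀ x : Spec (CommRingCat.of Ah), (Spec.map (CommRingCat.ofHom (algebraMap A Ah))) x ∈ U → x ∈ O)
    (y : O.toScheme ⟶ W) (hy : y ≫ i = O.ι ≫ Spec.map (CommRingCat.ofHom σ₀.toRingHom)) :
    ∃ (C₀ : Type u) (_ : CommRing C₀) (_ : Algebra A C₀) (_ : Algebra.FiniteType A C₀)
      (i' : W ⟶ Spec (CommRingCat.of C₀)) (_ : IsOpenImmersion i') (σ : C₀ →ₐ[A] Ah),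
      i' ≫ Spec.map (CommRingCat.ofHom (algebraMap A C₀)) = i ≫ Spec.map (CommRingCat.ofHom (algebraMap A P)) ∧
      y ≫ i' = O.ι ≫ Spec.map (CommRingCat.ofHom σ.toRingHom) := by
  have : IsNoetherianRing P := Algebra.FiniteType.isNoetherianRing A P
  have hNP : TopologicalSpace.NoetherianSpace (Spec (CommRingCat.of P)) := inferInstance
  have hN : TopologicalSpace.NoetherianSpace W := i.isEmbedding.isInducing.noetherianSpace
  have hqc : QuasiCompact i := inferInstance
  obtain ⟨Zs, g₁, g₂, hg₁, hg₂, hg⟩ :=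
    (IsImmersion.isImmersion_iff_exists_of_quasiCompact (f := i)).1 inferInstance
  obtain ⟨I, e, he⟩ := (IsClosedImmersion.Spec_iff (R := CommRingCat.of P)).1 hg₂
  change Ideal P at I
  let 𝔠 : Ideal P := I ⊓ RingHom.ker σ₀
  let C₀ := P ⧸ 𝔠
  let j : C₀ →+* P ⧸ I := Ideal.Quotient.factor (inf_le_left : 𝔠 ≤ I)
  have hj : Function.Surjective j := Ideal.Quotient.factor_surjective _
  let i₁ : W ⟶ Spec (CommRingCat.of (P ⧸ I)) := g₁ ≫ e.hom
  have hi₁ : i₁ ≫ Spec.map (CommRingCat.ofHom (Ideal.Quotient.mk I)) = i := by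
    rw [← hg, he, Category.assoc]
  let i' : W ⟶ Spec (CommRingCat.of C₀) := i₁ ≫ Spec.map (CommRingCat.ofHom j)
  have hi' : i' ≫ Spec.map (CommRingCat.ofHom (Ideal.Quotient.mk 𝔠)) = i := by
    rw [Category.assoc, ← Spec.map_comp, ← CommRingCat.ofHom_comp, ← hi₁]
    rfl
  let σ : C₀ →ₐ[A] Ah := Ideal.Quotient.liftₐ 𝔠 σ₀ fun x hx ↦ hx.2
  have hσ : σ.toRingHom.comp (Ideal.Quotient.mk 𝔠) = σ₀.toRingHom := rfl
  have hmono : Mono i' := by
    have : Mono (i' ≫ Spec.map (CommRingCat.ofHom (Ideal.Quotient.mk 𝔠))) := by rw [hi']; infer_instance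
    exact mono_of_mono _ (Spec.map (CommRingCat.ofHom (Ideal.Quotient.mk 𝔠)))
  have hopen : IsOpenImmersion i' := by
    refine isOpenImmersion_of_local i' fun w ↦ ?_
    obtain ⟨_, ⟨_, ⟨t, rfl⟩, rfl⟩, hwt, htU⟩ := (PrimeSpectrum.isBasis_basic_opens (R := A)).exists_subset_of_mem_open
      (hi w) U.isOpen
    let tP : P := algebraMap A P t
    let t0 : C₀ := Ideal.Quotient.mk 𝔠 tP
    let t1 : P ⧸ I := Ideal.Quotient.mk I tP
    have hjt : j t0 = t1 := rfl
    -- `σ₀` kills `I` up to powers of `t`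
    have htors : ∀ α ∈ I, ∃ n : ℕ, t ^ n • σ₀ α = 0 := by
      intro α hα
      let L := Localization.Away (algebraMap A Ah t)
      have hr : Set.range (loc (algebraMap A Ah t)) ⊆ Set.range O.ι := by
        rw [range_loc, Scheme.Opens.range_ι]
        intro x hx
        exact hO x (htU hx)
      let s : Spec (CommRingCat.of L) ⟶ O.toScheme := IsOpenImmersion.lift O.ι (loc (algebraMap A Ah t)) hr
      have hs : s ≫ O.ι = loc (algebraMap A Ah t) := IsOpenImmersion.lift_fac _ _ _
      obtain ⟨χ, hχ⟩ := Spec.map_surjective (s ≫ y ≫ i₁)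
      have h1 : (algebraMap Ah L).comp σ₀.toRingHom = χ.hom.comp (Ideal.Quotient.mk I) := by
        have h2 : Spec.map (CommRingCat.ofHom ((algebraMap Ah L).comp σ₀.toRingHom)) =
            Spec.map (CommRingCat.ofHom (χ.hom.comp (Ideal.Quotient.mk I))) := by
          rw [spec_comp σ₀.toRingHom (algebraMap Ah L), spec_comp (Ideal.Quotient.mk I) χ.hom]
          change loc (algebraMap A Ah t) ≫ _ = Spec.map χ ≫ _
          rw [hχ, Category.assoc, Category.assoc, hi₁, hy, ← Category.assoc, hs]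
        exact congr($(Spec.map_injective h2).hom)
      have h3 : algebraMap Ah L (σ₀ α) = 0 := by
        have h4 := DFunLike.congr_fun h1 α
        rw [RingHom.comp_apply, RingHom.comp_apply, Ideal.Quotient.eq_zero_iff_mem.2 hα, map_zero] at h4
        exact h4
      obtain ⟨⟨_, n, rfl⟩, hn⟩ := (IsLocalization.map_eq_zero_iff (Submonoid.powers (algebraMap A Ah t)) L _).1 h3
      refine ⟨n, ?_⟩
      rw [Algebra.smul_def, map_pow]
      exact hn
    have hk : ∀ x, j x = 0 → ∃ n : ℕ, t0 ^ n * x = 0 := by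
      intro x hx
      obtain ⟨α, rfl⟩ := Ideal.Quotient.mk_surjective x
      have hα : α ∈ I := Ideal.Quotient.eq_zero_iff_mem.1 hx
      obtain ⟨n, hn⟩ := htors α hα
      refine ⟨n, ?_⟩
      change Ideal.Quotient.mk 𝔠 tP ^ n * Ideal.Quotient.mk 𝔠 α = 0
      rw [← map_pow, ← map_mul, Ideal.Quotient.eq_zero_iff_mem]
      refine ⟨Ideal.mul_mem_left _ _ hα, ?_⟩
      change σ₀ (tP ^ n * α) = 0
      rw [map_mul, map_pow, AlgHom.commutes, ← map_pow, ← Algebra.smul_def]
      exact hn
    let L := Localization.Away t1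
    let : Algebra C₀ L := ((algebraMap (P ⧸ I) L).comp j).toAlgebra
    have hloc : IsLocalization.Away t0 L := by
      have : IsLocalization.Away (j t0) L := inferInstanceAs (IsLocalization.Away t1 (Localization.Away t1))
      exact isLocalization_of_quotient j hj t0 hk L fun x ↦ rfl
    have hoi : IsOpenImmersion (Spec.map (CommRingCat.ofHom (algebraMap C₀ L))) :=
      IsOpenImmersion.of_isLocalization t0
    let V : W.Opens := i₁ ⁻¹ᵁ (PrimeSpectrum.basicOpen t1)
    have hV : ∀ x : V, t1 ∉ ((V.ι ≫ i₁) x).asIdeal := fun x ↦ x.2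
    let l := lft (V.ι ≫ i₁) t1 hV
    have hl : l ≫ loc t1 = V.ι ≫ i₁ := lft_loc _ _ _
    have hlo : IsOpenImmersion l := by
      have : IsOpenImmersion (l ≫ loc t1) := by rw [hl]; infer_instance
      exact IsOpenImmersion.of_comp _ (loc t1)
    refine ⟨V, ?_, ?_⟩
    · change t1 ∉ (i₁ w).asIdeal
      intro hw
      have h1 : t ∉ ((i ≫ Spec.map (CommRingCat.ofHom (algebraMap A P))) w).asIdeal := hwt
      rw [← hi₁] at h1
      exact h1 hw
    · have h1 : V.ι ≫ i' = l ≫ Spec.map (CommRingCat.ofHom (algebraMap C₀ L)) := by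
        have h2 : Spec.map (CommRingCat.ofHom (algebraMap C₀ L)) = loc t1 ≫ Spec.map (CommRingCat.ofHom j) := by
          exact spec_comp j (algebraMap (P ⧸ I) L)
        rw [h2, ← Category.assoc l, hl, Category.assoc]
      rw [h1]
      infer_instance
  refine ⟨C₀, inferInstance, inferInstance, inferInstance, i', hopen, σ, ?_, ?_⟩
  · have h1 : Spec.map (CommRingCat.ofHom (algebraMap A C₀)) =
        Spec.map (CommRingCat.ofHom (Ideal.Quotient.mk 𝔠)) ≫ Spec.map (CommRingCat.ofHom (algebraMap A P)) := by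
      exact spec_comp (algebraMap A P) (Ideal.Quotient.mk 𝔠)
    rw [h1, ← Category.assoc, hi']
  · have hcl : IsClosedImmersion (Spec.map (CommRingCat.ofHom (Ideal.Quotient.mk 𝔠))) :=
      IsClosedImmersion.spec_of_surjective _ Ideal.Quotient.mk_surjective
    have hm : Mono (Spec.map (CommRingCat.ofHom (Ideal.Quotient.mk 𝔠))) := inferInstance
    rw [← cancel_mono (Spec.map (CommRingCat.ofHom (Ideal.Quotient.mk 𝔠))), Category.assoc, hi', hy, Category.assoc,
      ← Spec.map_comp, ← CommRingCat.ofHom_comp, hσ]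

end K58.OpenLift
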