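import Groth.Agent.CAlg.K58.OpenLift
import Mathlib.AlgebraicGeometry.Pullbacks
import Mathlib.RingTheory.TensorProduct.Finite

/-!
# Products of quasi-affine schemes
-/

set_option autoImplicit false
universe u

open CategoryTheory AlgebraicGeometry Limits TensorProduct

namespace K58.ProdSpec

theorem exists_prod (K A R : Type u) [CommRing K] [CommRing A] [CommRing R] [Algebra K A] [Algebra K R]
    [Algebra.FiniteType K R] {UW U T : Scheme.{u}} (jU : U ⟶ Spec (CommRingCat.of A)) (jT : T ⟶ Spec (CommRingCat.of R))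
    [IsOpenImmersion jU] [IsOpenImmersion jT] (a : UW ⟶ U) (b : UW ⟶ T)
    (hP : IsPullback a b (jU ≫ Spec.map (CommRingCat.ofHom (algebraMap K A)))
      (jT ≫ Spec.map (CommRingCat.ofHom (algebraMap K R)))) :
    ∃ (P : Type u) (_ : CommRing P) (_ : Algebra A P) (_ : Algebra.FiniteType A P) (ρ : R →+* P)
      (i₀ : UW ⟶ Spec (CommRingCat.of P)) (_ : IsOpenImmersion i₀),
      i₀ ≫ Spec.map (CommRingCat.ofHom (algebraMap A P)) = a ≫ jU ∧ i₀ ≫ Spec.map (CommRingCat.ofHom ρ) = b ≫ jT ∧
      (∀ (T' : Scheme.{u}) (s t : T' ⟶ Spec (CommRingCat.of P)),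
        s ≫ Spec.map (CommRingCat.ofHom (algebraMap A P)) = t ≫ Spec.map (CommRingCat.ofHom (algebraMap A P)) →
        s ≫ Spec.map (CommRingCat.ofHom ρ) = t ≫ Spec.map (CommRingCat.ofHom ρ) → s = t) ∧
      (∀ (B : Type u) [CommRing B] [Algebra A B] (g : R →+* B),
        (∀ k, g (algebraMap K R k) = algebraMap A B (algebraMap K A k)) → ∃ h : P →ₐ[A] B, h.toRingHom.comp ρ = g) := by
  let P := A ⊗[K] R
  let ρ : R →+* P := (Algebra.TensorProduct.includeRight : R →ₐ[K] A ⊗[K] R).toRingHom
  let m : pullback (jU ≫ Spec.map (CommRingCat.ofHom (algebraMap K A)))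
      (jT ≫ Spec.map (CommRingCat.ofHom (algebraMap K R))) ⟶
      pullback (Spec.map (CommRingCat.ofHom (algebraMap K A))) (Spec.map (CommRingCat.ofHom (algebraMap K R))) :=
    pullback.map _ _ _ _ jU jT (𝟙 _) (by simp) (by simp)
  let i₀ : UW ⟶ Spec (CommRingCat.of P) := hP.isoPullback.hom ≫ m ≫ (pullbackSpecIso K A R).hom
  have hm : IsOpenImmersion m := inferInstance
  have hio : IsOpenImmersion i₀ := inferInstance
  refine ⟨P, inferInstance, inferInstance, inferInstance, ρ, i₀, hio, ?_, ?_, ?_, ?_⟩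
  · rw [Category.assoc, Category.assoc, pullbackSpecIso_hom_fst', pullback.lift_fst, ← Category.assoc,
      hP.isoPullback_hom_fst]
  · rw [Category.assoc, Category.assoc]
    have h1 : (pullbackSpecIso K A R).hom ≫ Spec.map (CommRingCat.ofHom ρ) = pullback.snd _ _ :=
      pullbackSpecIso_hom_snd K A R
    rw [h1, pullback.lift_snd, ← Category.assoc, hP.isoPullback_hom_snd]
  · intro T' s t h1 h2
    rw [← cancel_mono (pullbackSpecIso K A R).inv]
    apply pullback.hom_ext
    · rw [Category.assoc, Category.assoc, pullbackSpecIso_inv_fst']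
      exact h1
    · rw [Category.assoc, Category.assoc, pullbackSpecIso_inv_snd]
      exact h2
  · intro B _ _ g hg
    let : Algebra K B := ((algebraMap A B).comp (algebraMap K A)).toAlgebra
    have : IsScalarTower K A B := IsScalarTower.of_algebraMap_eq' (R := K) (S := A) (A := B) rfl
    let g' : R →ₐ[K] B := ⟨g, hg⟩
    refine ⟨Algebra.TensorProduct.lift (Algebra.ofId A B) g' fun _ _ ↦ Commute.all _ _, ?_⟩
    ext x
    change Algebra.TensorProduct.lift (Algebra.ofId A B) g' (fun _ _ ↦ Commute.all _ _) (1 ⊗ₜ[K] x) = g x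
    rw [Algebra.TensorProduct.lift_tmul, map_one, one_mul]
    rfl

end K58.ProdSpec
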