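import Groth.Agent.CAlg.K58.Contr
import Groth.Agent.FlatB.GenFibRed
import Mathlib.RingTheory.Ideal.Quotient.Nilpotent
import Mathlib.RingTheory.TensorProduct.Quotient
import Mathlib.RingTheory.TensorProduct.MvPolynomial
import Mathlib.FieldTheory.IsAlgClosed.AlgebraicClosure
import Mathlib.RingTheory.Algebraic.Integral

/-!
# Uniform degree bounds for radicals: the generic step
-/

set_option autoImplicit false
universe u

open MvPolynomial TensorProduct Groth.Agent.FlatB

namespace K58.RadGen

open Contr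

section

variable {σ L L' : Type*} [Field L] [Field L'] [Algebra L L'] {n : ℕ} (b : Module.Basis (Fin n) L L')

theorem comp_add (l : Fin n) (p q : MvPolynomial σ L') : comp b l (p + q) = comp b l p + comp b l q := by
  ext m
  rw [coeff_comp, coeff_add, coeff_add, coeff_comp, coeff_comp, map_add]
  rfl

theorem comp_mul_map (l : Fin n) (p : MvPolynomial σ L') (q : MvPolynomial σ L) :
    comp b l (p * MvPolynomial.map (algebraMap L L') q) = comp b l p * q := by
  classical
  ext m
  rw [coeff_comp, coeff_mul, coeff_mul, map_sum, Finsupp.finsetSum_apply]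
  refine Finset.sum_congr rfl fun x _ ↦ ?_
  rw [coeff_map, coeff_comp, mul_comm (coeff x.1 p), ← Algebra.smul_def, map_smul, Finsupp.smul_apply, smul_eq_mul,
    mul_comm]

theorem comap_map_le [FiniteDimensional L L'] (I : Ideal (MvPolynomial σ L)) :
    (I.map (MvPolynomial.map (algebraMap L L'))).comap (MvPolynomial.map (algebraMap L L')) ≤ I := by
  let b := Module.finBasis L L'
  have key : ∀ x ∈ I.map (MvPolynomial.map (algebraMap L L')), ∀ (c : MvPolynomial σ L') l, comp b l (c * x) ∈ I := by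
    intro x hx
    refine Submodule.span_induction (p := fun x _ ↦ ∀ (c : MvPolynomial σ L') l, comp b l (c * x) ∈ I) ?_ ?_ ?_ ?_ hx
    · rintro _ ⟨q, hq, rfl⟩ c l
      rw [comp_mul_map]
      exact Ideal.mul_mem_left _ _ hq
    · intro c l
      have : comp b l (c * 0) = 0 := by
        ext m
        rw [coeff_comp]
        simp
      rw [this]
      exact I.zero_mem
    · intro x y _ _ hx hy c l
      rw [mul_add, comp_add]
      exact I.add_mem (hx c l) (hy c l)
    · intro a x _ hx c l
      rw [smul_eq_mul, ← mul_assoc]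
      exact hx _ l
  intro f hf
  rw [Ideal.mem_comap] at hf
  obtain ⟨l, hl⟩ : ∃ l, b.repr 1 l ≠ 0 := by
    by_contra h
    push Not at h
    have : b.repr 1 = 0 := by
      ext l
      exact h l
    rw [LinearEquiv.map_eq_zero_iff] at this
    exact one_ne_zero this
  have h1 := key _ hf 1 l
  rw [comp_mul_map] at h1
  have h2 : comp b l (1 : MvPolynomial σ L') = C (b.repr 1 l) := by
    classical
    ext m
    rw [coeff_comp, coeff_one, coeff_C]
    split_ifs
    · rfl
    · rw [map_zero]; rfl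
  rw [h2] at h1
  have h3 : f = C (b.repr 1 l)⁻¹ * (C (b.repr 1 l) * f) := by
    rw [← mul_assoc, ← C_mul, inv_mul_cancel₀ hl, C_1, one_mul]
  rw [h3]
  exact Ideal.mul_mem_left _ _ h1

end

/-- Base change of a quotient of a polynomial ring. -/
theorem nonempty_algEquiv (σ A L : Type*) [CommRing A] [CommRing L] [Algebra A L] (I : Ideal (MvPolynomial σ A)) :
    Nonempty (L ⊗[A] (MvPolynomial σ A ⧸ I) ≃ₐ[L]
      (MvPolynomial σ L ⧸ I.map (MvPolynomial.map (algebraMap A L)))) := by
  let e1 : L ⊗[A] (MvPolynomial σ A ⧸ I) ≃ₐ[L] _ := Algebra.TensorProduct.tensorQuotientEquiv (R := A) L (MvPolynomial σ A) L I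
  let e2 := algebraTensorAlgEquiv (σ := σ) A L
  refine ⟨e1.trans (Ideal.quotientEquivAlg _ _ e2 ?_)⟩
  have h : MvPolynomial.map (σ := σ) (algebraMap A L) = (e2 : L ⊗[A] MvPolynomial σ A →+* MvPolynomial σ L).comp
      (Algebra.TensorProduct.includeRight : MvPolynomial σ A →ₐ[A] L ⊗[A] MvPolynomial σ A).toRingHom := by
    ext x
    · simp [e2]
    · simp [e2]
  rw [h, ← Ideal.map_map]
  rfl

/-- Finite subalgebras containing the coefficients of multiples of given polynomials. -/
theorem exists_finite_subalgebra (A : Type u) [CommRing A] [IsDomain A] (Ω : Type u) [Field Ω] [Algebra A Ω]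
    [Algebra.IsAlgebraic A Ω] (σ τ : Type*) [Finite τ] (p : τ → MvPolynomial σ Ω) :
    ∃ c : A, c ≠ 0 ∧ ∃ A' : Subalgebra A Ω, Module.Finite A A' ∧ ∀ t, ∃ q : MvPolynomial σ A',
      MvPolynomial.map (algebraMap A' Ω) q = C (algebraMap A Ω c) * p t := by
  classical
  have := Fintype.ofFinite τ
  let s : Finset Ω := Finset.univ.biUnion fun t ↦ (p t).support.image fun m ↦ coeff m (p t)
  obtain ⟨c, hc, hs⟩ := Algebra.IsAlgebraic.exists_integral_multiples (R := A) s
  refine ⟨c, hc, Algebra.adjoin A (s.image (c • ·) : Finset Ω), ?_, fun t ↦ ?_⟩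
  · refine Algebra.finite_adjoin_of_finite_of_isIntegral (Finset.finite_toSet _) ?_
    intro x hx
    rw [Finset.coe_image] at hx
    obtain ⟨y, hy, rfl⟩ := hx
    exact hs y hy
  · have hmem : ∀ m ∈ (p t).support, c • coeff m (p t) ∈ Algebra.adjoin A (s.image (c • ·) : Finset Ω) := by
      intro m hm
      refine Algebra.subset_adjoin ?_
      rw [Finset.coe_image]
      refine ⟨_, ?_, rfl⟩
      rw [Finset.mem_coe, Finset.mem_biUnion]
      exact ⟨t, Finset.mem_univ _, Finset.mem_image.2 ⟨m, hm, rfl⟩⟩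
    refine ⟨∑ m ∈ (p t).support.attach, monomial m.1 ⟨_, hmem m.1 m.2⟩, ?_⟩
    rw [map_sum]
    simp only [map_monomial]
    conv_rhs => rw [← support_sum_monomial_coeff (p t), Finset.mul_sum, ← Finset.sum_attach]
    refine Finset.sum_congr rfl fun m _ ↦ ?_
    rw [C_mul_monomial, ← Algebra.smul_def]
    rfl

/-- Lifting of fields along a finite extension of domains, with bounded degree. -/
theorem exists_field_ext (A : Type u) [CommRing A] [IsDomain A] (A' : Type u) [CommRing A'] [IsDomain A'] [Algebra A A']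
    [Module.Finite A A'] (hinj : Function.Injective (algebraMap A A')) :
    ∃ n : ℕ, ∃ a : A, a ≠ 0 ∧ ∀ (k : Type u) [Field k] [Algebra A k], algebraMap A k a ≠ 0 →
      ∃ (L' : Type u) (_ : Field L') (_ : Algebra k L') (_ : Algebra A' L'),
        (algebraMap A' L').comp (algebraMap A A') = (algebraMap k L').comp (algebraMap A k) ∧
        FiniteDimensional k L' ∧ Module.finrank k L' ≤ n := by
  obtain ⟨n, f, hf⟩ := Module.Finite.exists_fin' A A'
  have hinj' : Function.Injective (algebraMap A (FractionRing A')) := by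
    rw [IsScalarTower.algebraMap_eq A A' (FractionRing A')]
    exact (IsFractionRing.injective A' (FractionRing A')).comp hinj
  have hnt : Nontrivial (FractionRing A' ⊗[A] A') :=
    (Algebra.TensorProduct.lift (AlgHom.id A (FractionRing A')) (IsScalarTower.toAlgHom A A' (FractionRing A'))
      (fun _ _ ↦ mul_comm _ _)).toRingHom.domain_nontrivial
  obtain ⟨a, ha, h⟩ := GenFibA.exists_nontrivial A' (FractionRing A') hinj'
  refine ⟨n, a, ha, fun k _ _ hk ↦ ?_⟩
  have h1 : Nontrivial (k ⊗[A] A') := h k (isUnit_iff_ne_zero.2 hk)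
  obtain ⟨m, hm⟩ := Ideal.exists_maximal (k ⊗[A] A')
  let : Field ((k ⊗[A] A') ⧸ m) := Ideal.Quotient.field m
  let ψ : A' →+* (k ⊗[A] A') ⧸ m := (Ideal.Quotient.mk m).comp
    (Algebra.TensorProduct.includeRight : A' →ₐ[A] k ⊗[A] A').toRingHom
  have hfin : Module.Finite k (k ⊗[A] A') := inferInstance
  have hfin' : Module.Finite k ((k ⊗[A] A') ⧸ m) := inferInstance
  refine ⟨(k ⊗[A] A') ⧸ m, inferInstance, inferInstance, ψ.toAlgebra, ?_, ?_, ?_⟩
  · ext x
    change Ideal.Quotient.mk m ((1 : k) ⊗ₜ[A] algebraMap A A' x) = Ideal.Quotient.mk m ((algebraMap A k x) ⊗ₜ[A] (1 : A'))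
    rw [Algebra.algebraMap_eq_smul_one, TensorProduct.tmul_smul, TensorProduct.smul_tmul',
      ← Algebra.algebraMap_eq_smul_one]
  · exact hfin'
  · have h2 : Function.Surjective (f.baseChange k) := LinearMap.lTensor_surjective k hf
    have h3 := LinearMap.finrank_le_finrank_of_surjective h2
    have h4 : Module.finrank k (k ⊗[A] (Fin n → A)) = n := by
      rw [Module.finrank_baseChange, Module.finrank_fin_fun]
    rw [h4] at h3
    refine le_trans ?_ h3
    exact LinearMap.finrank_le_finrank_of_surjective (f := (Ideal.Quotient.mkₐ k m).toLinearMap)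
      Ideal.Quotient.mk_surjective

/-- The degree bounded part of the radical. -/
def radLE {σ : Type*} {k : Type*} [CommRing k] (I : Ideal (MvPolynomial σ k)) (R : ℕ) : Set (MvPolynomial σ k) :=
  {f | f.totalDegree ≤ R ∧ f ∈ I.radical}

/-- Generic bound for radicals. -/
theorem exists_generic_bound (A : Type u) [CommRing A] [IsDomain A] [IsNoetherianRing A] (N : ℕ) (ι : Type) [Fintype ι]
    (F : ι → MvPolynomial (Fin N) A) :
    ∃ a : A, a ≠ 0 ∧ ∃ R : ℕ, ∀ (k : Type u) [Field k] (φ : A →+* k), φ a ≠ 0 →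
      (Ideal.span (Set.range fun i ↦ MvPolynomial.map φ (F i))).radical ≤
        Ideal.span (radLE (Ideal.span (Set.range fun i ↦ MvPolynomial.map φ (F i))) R) := by
  classical
  let Ω := AlgebraicClosure (FractionRing A)
  have hAΩ : Function.Injective (algebraMap A Ω) := by
    rw [IsScalarTower.algebraMap_eq A (FractionRing A) Ω]
    exact (algebraMap (FractionRing A) Ω).injective.comp (IsFractionRing.injective A (FractionRing A))
  have halg : Algebra.IsAlgebraic A Ω :=
    (IsFractionRing.comap_isAlgebraic_iff (A := A) (K := FractionRing A)).2 inferInstance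
  -- generators of the radical over `Ω`
  let I : Ideal (MvPolynomial (Fin N) Ω) := Ideal.span (Set.range fun i ↦ MvPolynomial.map (algebraMap A Ω) (F i))
  obtain ⟨r, G, hG⟩ := Submodule.fg_iff_exists_fin_generating_family.1 (IsNoetherian.noetherian I.radical)
  obtain ⟨e, he⟩ := Ideal.exists_radical_pow_le_of_fg I (IsNoetherian.noetherian I.radical)
  have hGI : ∀ j, ∃ c : ι → MvPolynomial (Fin N) Ω, ∑ i, c i * MvPolynomial.map (algebraMap A Ω) (F i) = G j ^ (e + 1) := by
    intro j
    rw [← Ideal.mem_span_range_iff_exists_fun]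
    rw [pow_succ]
    refine Ideal.mul_mem_right _ _ (he (Ideal.pow_mem_pow ?_ _))
    rw [← hG]
    exact Submodule.subset_span ⟨j, rfl⟩
  have hIG : ∀ i, ∃ b : Fin r → MvPolynomial (Fin N) Ω, ∑ j, b j * G j = MvPolynomial.map (algebraMap A Ω) (F i) := by
    intro i
    rw [← Ideal.mem_span_range_iff_exists_fun]
    have h1 : MvPolynomial.map (algebraMap A Ω) (F i) ∈ I.radical := Ideal.le_radical (Submodule.subset_span ⟨i, rfl⟩)
    rw [← hG] at h1
    exact h1
  choose cc hcc using hGI
  choose bb hbb using hIG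
  -- common finite subalgebra
  obtain ⟨c, hc, A', hfin, hq⟩ := exists_finite_subalgebra A Ω (Fin N) (Fin r ⊕ (Fin r × ι) ⊕ (ι × Fin r))
    (Sum.elim G (Sum.elim (fun x ↦ cc x.1 x.2) (fun x ↦ bb x.1 x.2)))
  choose q hq using hq
  let G' : Fin r → MvPolynomial (Fin N) A' := fun j ↦ q (Sum.inl j)
  have hG' : ∀ j, MvPolynomial.map (algebraMap A' Ω) (G' j) = C (algebraMap A Ω c) * G j := fun j ↦ hq _
  have hinjA' : Function.Injective (algebraMap A' Ω) := Subtype.val_injective
  have hinj : Function.Injective (MvPolynomial.map (σ := Fin N) (algebraMap A' Ω)) :=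
    MvPolynomial.map_injective _ hinjA'
  have hmapF : ∀ i, MvPolynomial.map (algebraMap A' Ω) (MvPolynomial.map (algebraMap A A') (F i)) =
      MvPolynomial.map (algebraMap A Ω) (F i) := by
    intro i
    rw [MvPolynomial.map_map]
    rfl
  have hmapc : algebraMap A' Ω (algebraMap A A' c) = algebraMap A Ω c := rfl
  have hrel1 : ∀ j, G' j ^ (e + 1) ∈ Ideal.span (Set.range fun i ↦ MvPolynomial.map (algebraMap A A') (F i)) := by
    intro j
    have h1 : G' j ^ (e + 1) = ∑ i, (C (algebraMap A A' c) ^ e * q (Sum.inr (Sum.inl (j, i)))) *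
        MvPolynomial.map (algebraMap A A') (F i) := by
      apply hinj
      rw [map_pow, hG', map_sum, mul_pow, ← hcc, Finset.mul_sum]
      refine Finset.sum_congr rfl fun i _ ↦ ?_
      rw [map_mul, map_mul, map_pow, hq, hmapF, map_C, hmapc]
      simp only [Sum.elim_inr, Sum.elim_inl]
      ring
    rw [h1]
    exact Ideal.sum_mem _ fun i _ ↦ Ideal.mul_mem_left _ _ (Ideal.subset_span ⟨i, rfl⟩)
  have hrel2 : ∀ i, C (algebraMap A A' c) ^ 2 * MvPolynomial.map (algebraMap A A') (F i) ∈
      Ideal.span (Set.range G') := by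
    intro i
    have h1 : C (algebraMap A A' c) ^ 2 * MvPolynomial.map (algebraMap A A') (F i) =
        ∑ j, q (Sum.inr (Sum.inr (i, j))) * G' j := by
      apply hinj
      rw [map_mul, map_pow, map_C, hmapF, hmapc, map_sum, ← hbb, Finset.mul_sum]
      refine Finset.sum_congr rfl fun j _ ↦ ?_
      rw [map_mul, hq, hG']
      simp only [Sum.elim_inr]
      ring
    rw [h1]
    exact Ideal.sum_mem _ fun j _ ↦ Ideal.mul_mem_left _ _ (Ideal.subset_span ⟨j, rfl⟩)
  -- the quotient is generically geometrically reduced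
  let J : Ideal (MvPolynomial (Fin N) A') := Ideal.span (Set.range G')
  have hJrad : J.map (MvPolynomial.map (algebraMap A' Ω)) = I.radical := by
    rw [Ideal.map_span, ← hG, ← Set.range_comp]
    apply le_antisymm
    · rw [Ideal.span_le]
      rintro _ ⟨j, rfl⟩
      simp only [Function.comp_apply, hG']
      exact Ideal.mul_mem_left _ _ (Submodule.subset_span ⟨j, rfl⟩)
    · rw [Submodule.span_le]
      rintro _ ⟨j, rfl⟩
      have h1 : G j = C (algebraMap A Ω c)⁻¹ * MvPolynomial.map (algebraMap A' Ω) (G' j) := by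
        rw [hG', ← mul_assoc, ← C_mul, inv_mul_cancel₀, C_1, one_mul]
        rw [Ne, map_eq_zero_iff _ hAΩ]
        exact hc
      rw [h1]
      exact Ideal.mul_mem_left _ _ (Submodule.subset_span ⟨j, rfl⟩)
  have hred : IsReduced (Ω ⊗[A'] (MvPolynomial (Fin N) A' ⧸ J)) := by
    obtain ⟨e'⟩ := nonempty_algEquiv (Fin N) A' Ω J
    have h1 : IsReduced (MvPolynomial (Fin N) Ω ⧸ J.map (MvPolynomial.map (algebraMap A' Ω))) := by
      rw [← Ideal.isRadical_iff_quotient_reduced, hJrad]
      exact Ideal.radical_isRadical I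
    exact isReduced_of_injective e' e'.injective
  obtain ⟨a', ha', hL⟩ := GenFibRed.exists_isReduced (MvPolynomial (Fin N) A' ⧸ J) Ω hinjA'
  obtain ⟨f', hf', hdvd⟩ := (Algebra.IsAlgebraic.isAlgebraic (R := A) a').exists_nonzero_dvd
    (mem_nonZeroDivisors_of_ne_zero ha')
  have hAA' : Function.Injective (algebraMap A A') := by
    intro x y hxy
    exact hAΩ (congrArg (algebraMap A' Ω) hxy)
  obtain ⟨n, a₂, ha₂, hn⟩ := exists_field_ext A A' hAA'
  obtain ⟨B, hB⟩ := exists_contr_bound.{u} N n (Finset.univ.sup fun j ↦ (G' j).totalDegree) (Fin r)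
  refine ⟨c * f' * a₂, mul_ne_zero (mul_ne_zero hc hf') ha₂, B, fun k _ φ hφ ↦ ?_⟩
  rw [map_mul, map_mul, mul_ne_zero_iff, mul_ne_zero_iff] at hφ
  let : Algebra A k := φ.toAlgebra
  have hφ' : (algebraMap A k) = φ := rfl
  obtain ⟨L', _, _, _, hcomp, hfd, hn⟩ := hn k hφ.2
  let g : Fin r → MvPolynomial (Fin N) L' := fun j ↦ MvPolynomial.map (algebraMap A' L') (G' j)
  have hcomp' : ∀ x, algebraMap A' L' (algebraMap A A' x) = algebraMap k L' (φ x) := fun x ↦ DFunLike.congr_fun hcomp x
  have hne : ∀ x, φ x ≠ 0 → algebraMap A' L' (algebraMap A A' x) ≠ 0 := by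
    intro x hx
    rw [hcomp', Ne, map_eq_zero_iff _ (algebraMap k L').injective]
    exact hx
  have ha'L : algebraMap A' L' a' ≠ 0 := by
    obtain ⟨y, hy⟩ := hdvd
    intro h0
    refine hne f' hφ.1.2 ?_
    rw [hy, map_mul, h0, zero_mul]
  have hgrad : (Ideal.span (Set.range g)).IsRadical := by
    obtain ⟨e'⟩ := nonempty_algEquiv (Fin N) A' L' J
    have h1 := hL L' ha'L
    have h2 : J.map (MvPolynomial.map (algebraMap A' L')) = Ideal.span (Set.range g) := by
      rw [Ideal.map_span, ← Set.range_comp]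
      rfl
    rw [← h2, Ideal.isRadical_iff_quotient_reduced]
    exact isReduced_of_injective e'.symm e'.symm.injective
  set Ik : Ideal (MvPolynomial (Fin N) k) := Ideal.span (Set.range fun i ↦ MvPolynomial.map φ (F i)) with hIk
  have hIkL : Ik.map (MvPolynomial.map (algebraMap k L')) = Ideal.span (Set.range fun i ↦
      MvPolynomial.map (algebraMap A' L') (MvPolynomial.map (algebraMap A A') (F i))) := by
    rw [hIk, Ideal.map_span, ← Set.range_comp]
    congr 2
    funext i
    simp only [Function.comp_apply, MvPolynomial.map_map, hcomp, hφ']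
  have hle1 : Ik.map (MvPolynomial.map (algebraMap k L')) ≤ Ideal.span (Set.range g) := by
    rw [hIkL, Ideal.span_le]
    rintro _ ⟨i, rfl⟩
    have h1 := Ideal.mem_map_of_mem (MvPolynomial.map (algebraMap A' L')) (hrel2 i)
    rw [Ideal.map_span, ← Set.range_comp, map_mul, map_pow, map_C] at h1
    have h2 := Ideal.mul_mem_left _ (C ((algebraMap A' L' (algebraMap A A' c))⁻¹) ^ 2) h1
    rw [← mul_assoc, ← mul_pow, ← C_mul, inv_mul_cancel₀ (hne c hφ.1.1), C_1, one_pow, one_mul] at h2
    exact h2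
  have hle2 : Ideal.span (Set.range g) ≤ (Ik.map (MvPolynomial.map (algebraMap k L'))).radical := by
    rw [Ideal.span_le]
    rintro _ ⟨j, rfl⟩
    refine ⟨e + 1, ?_⟩
    have h1 := Ideal.mem_map_of_mem (MvPolynomial.map (algebraMap A' L')) (hrel1 j)
    rw [Ideal.map_span, ← Set.range_comp, map_pow] at h1
    rw [hIkL]
    exact h1
  intro x hx
  have hx1 : x ∈ Ideal.comap (MvPolynomial.map (algebraMap k L')) (Ideal.span (Set.range g)) := by
    obtain ⟨m, hm⟩ := hx
    refine hgrad ⟨m, hle1 ?_⟩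
    rw [← map_pow]
    exact Ideal.mem_map_of_mem _ hm
  have hx2 := hB k L' hn g (fun j ↦ (Syz.totalDegree_map_le _ _).trans
    (Finset.le_sup (f := fun j ↦ (G' j).totalDegree) (Finset.mem_univ j))) hx1
  refine Ideal.span_mono ?_ hx2
  rintro y ⟨hy1, hy2⟩
  refine ⟨hy1, ?_⟩
  obtain ⟨m, hm⟩ := hle2 hy2
  refine ⟨m, comap_map_le (L' := L') Ik ?_⟩
  rw [Ideal.mem_comap, map_pow]
  exact hm

end K58.RadGen
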