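import Groth.Agent.CAlg.K58.RowPt
import Mathlib.RingTheory.Smooth.Basic
import Mathlib.RingTheory.RingHom.Smooth

/-!
# The universal matrix of rank one

`RM r N`: the ring of the universal `r × (N + 1)` matrix over `ℤ` all of whose `2 × 2` minors vanish,
`Reg r N`: the open subscheme of `Spec (RM r N)` where some entry is invertible. A morphism `Reg r N ⟶ P^N_ℤ` given by
the rows is smooth.
-/

set_option autoImplicit false
universe u

open CategoryTheory AlgebraicGeometry MvPolynomial

namespace K58.RankOne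

open Groth.Agent.Sga5.ProjChart Groth.Agent.Sga7.H132.ProjPts K58.ZPt K58.RowPt

variable (r N : ℕ)

/-- The minors. -/
noncomputable def rel (x : (Fin r × Fin r) × (Fin (N + 1) × Fin (N + 1))) : MvPolynomial (Fin r × Fin (N + 1)) Z.{u} :=
  X (x.1.1, x.2.1) * X (x.1.2, x.2.2) - X (x.1.1, x.2.2) * X (x.1.2, x.2.1)

/-- The ring of the universal matrix of rank one. -/
def RM : Type u := MvPolynomial (Fin r × Fin (N + 1)) Z.{u} ⧸ Ideal.span (Set.range (rel.{u} r N))

noncomputable instance : CommRing (RM.{u} r N) :=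
  inferInstanceAs (CommRing (MvPolynomial (Fin r × Fin (N + 1)) Z.{u} ⧸ Ideal.span (Set.range (rel.{u} r N))))

/-- The quotient map. -/
noncomputable def mk : MvPolynomial (Fin r × Fin (N + 1)) Z.{u} →+* RM.{u} r N :=
  Ideal.Quotient.mk (Ideal.span (Set.range (rel.{u} r N)))

theorem mk_surjective : Function.Surjective (mk.{u} r N) := Ideal.Quotient.mk_surjective

variable {r N}

/-- The entries. -/
noncomputable def ent (a : Fin r) (j : Fin (N + 1)) : RM.{u} r N := mk r N (X (a, j))

theorem ent_rel (a b : Fin r) (i j : Fin (N + 1)) :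
    (ent a i : RM.{u} r N) * ent b j = ent a j * ent b i := by
  rw [ent, ent, ent, ent, ← map_mul, ← map_mul]
  exact Ideal.Quotient.eq.2 (Ideal.subset_span ⟨((a, b), (i, j)), rfl⟩)

theorem hom_ext {B : Type*} [CommRing B] {f g : RM.{u} r N →+* B} (h : ∀ a j, f (ent a j) = g (ent a j)) : f = g := by
  have h1 : f.comp (mk r N) = g.comp (mk r N) := by
    apply MvPolynomial.ringHom_ext
    · intro c
      exact DFunLike.congr_fun (ringHomZ_ext ((f.comp (mk r N)).comp C) ((g.comp (mk r N)).comp C)) c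
    · rintro ⟨a, j⟩
      exact h a j
  ext x
  obtain ⟨y, rfl⟩ := mk_surjective r N x
  exact DFunLike.congr_fun h1 y

/-- The universal property. -/
noncomputable def lift {B : Type u} [CommRing B] (w : Fin r → Fin (N + 1) → B)
    (hw : ∀ a b i j, w a i * w b j = w a j * w b i) : RM.{u} r N →+* B :=
  Ideal.Quotient.lift _ (eval₂Hom ((Int.castRingHom B).comp ULift.ringEquiv.toRingHom) (fun x ↦ w x.1 x.2)) (by
    have : Ideal.span (Set.range (rel.{u} r N)) ≤
        RingHom.ker (eval₂Hom ((Int.castRingHom B).comp ULift.ringEquiv.toRingHom) (fun x : Fin r × Fin (N + 1) ↦ w x.1 x.2)) := by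
      rw [Ideal.span_le]
      rintro _ ⟨x, rfl⟩
      rw [SetLike.mem_coe, RingHom.mem_ker, rel, map_sub, map_mul, map_mul]
      simp only [coe_eval₂Hom, eval₂_X]
      rw [hw, sub_self]
    exact fun q hq ↦ this hq)

theorem lift_ent {B : Type u} [CommRing B] (w : Fin r → Fin (N + 1) → B)
    (hw : ∀ a b i j, w a i * w b j = w a j * w b i) (a : Fin r) (j : Fin (N + 1)) : lift w hw (ent a j) = w a j := by
  change eval₂ _ (fun x : Fin r × Fin (N + 1) ↦ w x.1 x.2) (X (a, j)) = _
  rw [eval₂_X]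

theorem finiteType_mk : ((mk.{u} r N).comp C).FiniteType := by
  refine RingHom.FiniteType.comp (RingHom.FiniteType.of_surjective _ (mk_surjective r N)) ?_
  exact RingHom.finiteType_algebraMap.2 (inferInstanceAs (Algebra.FiniteType Z.{u} (MvPolynomial (Fin r × Fin (N + 1)) Z.{u})))

instance : IsNoetherianRing Z.{u} := isNoetherianRing_of_ringEquiv ℤ ULift.ringEquiv.symm

instance (j : Fin (N + 1)) : IsNoetherianRing (Chart N Z.{u} j) :=
  isNoetherianRing_of_ringEquiv _ (chartEquiv N Z.{u} j)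

/-- The localization where the entry `(a, j)` is invertible. -/
abbrev LM (a : Fin r) (j : Fin (N + 1)) : Type u := Localization.Away (ent a j : RM.{u} r N)

/-- The structure map. -/
noncomputable abbrev toLM (a : Fin r) (j : Fin (N + 1)) : RM.{u} r N →+* LM.{u} a j :=
  algebraMap (RM.{u} r N) (Localization.Away (ent a j : RM.{u} r N))

theorem isUnit_toLM (a : Fin r) (j : Fin (N + 1)) : IsUnit (toLM.{u} a j (ent a j)) :=
  IsLocalization.Away.algebraMap_isUnit (ent a j : RM.{u} r N)

/-- The ring map of the row `a` where the entry `(a, j)` is invertible. -/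
noncomputable def rowHom (a : Fin r) (j : Fin (N + 1)) : Chart N Z.{u} j →+* LM.{u} a j :=
  chiZ ((((isUnit_toLM.{u} a j).unit⁻¹ : (LM.{u} a j)ˣ) : LM.{u} a j) • fun l ↦ toLM.{u} a j (ent a l)) j

theorem rowHom_chart (a : Fin r) (j : Fin (N + 1)) :
    Spec.map (CommRingCat.ofHom (rowHom.{u} a j)) ≫ chart N Z.{u} j =
      pt (fun l ↦ toLM.{u} a j (ent a l)) j (isUnit_toLM.{u} a j) := rfl

theorem rowHom_coord (a : Fin r) (j l : Fin (N + 1)) :
    rowHom.{u} a j (coord N Z.{u} j l) * toLM.{u} a j (ent a j) = toLM.{u} a j (ent a l) := by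
  have h : IsUnit (toLM.{u} a j (ent a j)) := isUnit_toLM a j
  have h1 : ((h.unit⁻¹ : (LM.{u} a j)ˣ) : LM.{u} a j) * toLM.{u} a j (ent a j) = 1 := h.val_inv_mul
  rw [rowHom, chiZ_coord]
  · rw [Pi.smul_apply, smul_eq_mul, mul_right_comm, h1, one_mul]
  · rw [Pi.smul_apply, smul_eq_mul]
    exact h1

theorem formallySmooth_rowHom (a : Fin r) (j : Fin (N + 1)) :
    @Algebra.FormallySmooth (Chart N Z.{u} j) (LM.{u} a j) _ _ (rowHom.{u} a j).toAlgebra := by
  let S := Localization.Away (ent a j : RM.{u} r N)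
  let : Algebra (Chart N Z.{u} j) S := (rowHom.{u} a j).toAlgebra
  have halg : ∀ x, algebraMap (Chart N Z.{u} j) S x = rowHom a j x := fun x ↦ rfl
  refine Algebra.FormallySmooth.of_comp_surjective fun B _ _ I hI g ↦ ?_
  have hnil : IsNilpotent I := ⟨2, hI⟩
  let x : Fin (N + 1) → B := fun l ↦ algebraMap (Chart N Z.{u} j) B (coord N Z.{u} j l)
  have hxj : x j = 1 := by
    simp only [x]
    rw [coord_self, map_one]
  have hgx : ∀ l, g (rowHom a j (coord N Z.{u} j l)) = Ideal.Quotient.mk I (x l) := fun l ↦ by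
    have := g.commutes (coord N Z.{u} j l)
    rw [halg] at this
    rw [this]
    rfl
  choose w hw using fun b : Fin r ↦ Ideal.Quotient.mk_surjective (I := I) (g (algebraMap (RM.{u} r N) S (ent b j)))
  have hrel : ∀ a b i l, (w a * x i) * (w b * x l) = (w a * x l) * (w b * x i) := by
    intro a b i l
    ring
  let ψ : RM.{u} r N →+* B := lift (fun b l ↦ w b * x l) hrel
  have hψ : ∀ b l, ψ (ent b l) = w b * x l := fun b l ↦ lift_ent (fun b l ↦ w b * x l) hrel b l
  have hwa : IsUnit (ψ (ent a j)) := by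
    rw [hψ, hxj, mul_one, ← hnil.isUnit_quotient_mk_iff, hw]
    exact (IsLocalization.Away.algebraMap_isUnit (S := S) (ent a j : RM.{u} r N)).map g.toRingHom
  let Ψ : S →+* B := IsLocalization.Away.lift (ent a j : RM.{u} r N) hwa
  have hΨ : ∀ q, Ψ (algebraMap _ S q) = ψ q := fun q ↦ IsLocalization.Away.lift_eq _ hwa q
  have hcomm : Ψ.comp (rowHom a j) = algebraMap (Chart N Z.{u} j) B := by
    refine chart_hom_ext fun l ↦ ?_
    have h1 := congrArg Ψ (rowHom_coord (r := r) a j l)
    rw [map_mul, hΨ, hΨ, hψ, hψ, hxj, mul_one] at h1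
    rw [hψ, hxj, mul_one] at hwa
    rw [RingHom.comp_apply]
    change _ = x l
    refine hwa.mul_left_cancel ?_
    rw [mul_comm, h1]
  refine ⟨⟨Ψ, fun q ↦ DFunLike.congr_fun hcomm q⟩, ?_⟩
  have key : (Ideal.Quotient.mk I).comp Ψ = g.toRingHom := by
    apply IsLocalization.ringHom_ext (Submonoid.powers (ent a j : RM.{u} r N))
    refine hom_ext fun b l ↦ ?_
    simp only [RingHom.comp_apply]
    rw [hΨ, hψ, map_mul, hw, ← hgx, ← map_mul]
    change g _ = g _
    congr 1
    have h1 := congrArg (algebraMap (RM.{u} r N) S) (ent_rel b a l j)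
    rw [map_mul, map_mul, ← rowHom_coord a j l] at h1
    have h2 : IsUnit (algebraMap (RM.{u} r N) S (ent a j)) := IsLocalization.Away.algebraMap_isUnit (ent a j)
    refine h2.mul_right_cancel ?_
    rw [h1]
    ring
  exact AlgHom.ext fun y ↦ DFunLike.congr_fun key y

theorem smooth_rowHom (a : Fin r) (j : Fin (N + 1)) : (rowHom.{u} a j).Smooth := by
  have h3 : (toLM.{u} a j).FiniteType := RingHom.finiteType_algebraMap.2
    (IsLocalization.finiteType_of_monoid_fg (Submonoid.powers (ent a j : RM.{u} r N)) (LM.{u} a j))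
  have h4 : ((toLM.{u} a j).comp ((mk.{u} r N).comp C)).FiniteType := h3.comp finiteType_mk
  have h5 : ((rowHom.{u} a j).comp (chartC N Z.{u} j)).FiniteType := by
    rw [ringHomZ_ext ((rowHom.{u} a j).comp (chartC N Z.{u} j)) ((toLM.{u} a j).comp ((mk.{u} r N).comp C))]
    exact h4
  have h6 : (rowHom.{u} a j).FiniteType := h5.of_comp_finiteType
  have h7 : (rowHom.{u} a j).FinitePresentation := RingHom.FinitePresentation.of_finiteType.1 h6
  let : Algebra (Chart N Z.{u} j) (LM.{u} a j) := (rowHom.{u} a j).toAlgebra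
  have h8 : Algebra.FormallySmooth (Chart N Z.{u} j) (LM.{u} a j) := formallySmooth_rowHom a j
  have h9 : Algebra.Smooth (Chart N Z.{u} j) (LM.{u} a j) := ⟨h8, h7⟩
  exact h9

/-- The regular locus. -/
theorem smooth_of_isRow {T : Scheme.{u}} (t : T ⟶ Spec (CommRingCat.of (RM.{u} r N))) [IsOpenImmersion t]
    (p : T ⟶ CohB1.ProjSpace N Z.{u}) (hp : IsRow t ent p)
    (hc : ∀ x : T, ∃ a j, (ent a j : RM.{u} r N) ∉ (t x).asIdeal) : Smooth p := by
  choose a j hj using hc
  let V : T → T.Opens := fun x ↦ t ⁻¹ᵁ (PrimeSpectrum.basicOpen (ent (a x) (j x)))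
  have hV : ⨆ x, V x = ⊤ := by
    rw [eq_top_iff]
    intro x _
    exact TopologicalSpace.Opens.mem_iSup.2 ⟨x, hj x⟩
  rw [IsZariskiLocalAtSource.iff_of_iSup_eq_top (P := @Smooth) V hV]
  intro x
  let f : RM.{u} r N := ent (a x) (j x)
  have h1 : ∀ y : V x, f ∉ (((V x).ι ≫ t) y).asIdeal := fun y ↦ y.2
  have e1 : lft ((V x).ι ≫ t) f h1 ≫ loc f = (V x).ι ≫ t := lft_loc _ _ _
  have h2 : IsOpenImmersion (lft ((V x).ι ≫ t) f h1) := by
    have : IsOpenImmersion (lft ((V x).ι ≫ t) f h1 ≫ loc f) := by rw [e1]; infer_instance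
    exact IsOpenImmersion.of_comp _ (loc f)
  have h3 : (V x).ι ≫ p = lft ((V x).ι ≫ t) f h1 ≫ Spec.map (CommRingCat.ofHom (rowHom (a x) (j x))) ≫
      chart N Z.{u} (j x) := by
    have h5 := (hp.comp (V x).ι).eq (p' := lft ((V x).ι ≫ t) f h1 ≫
      Spec.map (CommRingCat.ofHom (rowHom (a x) (j x))) ≫ chart N Z.{u} (j x)) ?_ ?_
    · exact h5
    · have h6 : IsRow (loc f) (ent : Fin r → Fin (N + 1) → RM.{u} r N)
          (Spec.map (CommRingCat.ofHom (rowHom (a x) (j x))) ≫ chart N Z.{u} (j x)) := by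
        intro C _ ψ b i h g hg
        obtain ⟨χ, rfl⟩ := Spec.map_surjective g
        have h7 : χ.hom.comp (algebraMap (RM.{u} r N) (Localization.Away f)) = ψ := by
          rw [loc, ← Spec.map_comp] at hg
          exact congr($(Spec.map_injective hg).hom)
        have h8 : ∀ y, χ.hom (algebraMap (RM.{u} r N) (Localization.Away f) y) = ψ y := fun y ↦
          DFunLike.congr_fun h7 y
        rw [rowHom_chart]
        change Spec.map (CommRingCat.ofHom χ.hom) ≫ _ = _
        have h9 : IsUnit (χ.hom (algebraMap (RM.{u} r N) (Localization.Away f) (ent (a x) (j x)))) :=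
          (IsLocalization.Away.algebraMap_isUnit f).map χ.hom
        rw [spec_pt _ _ _ _ h9]
        have h10 : IsUnit (ψ (ent (a x) (j x))) := by rw [← h8]; exact h9
        refine pt_eq _ _ _ _ _ _ (ψ (ent b (j x)) * ((h10.unit⁻¹ : Cˣ) : C)) fun l ↦ ?_
        rw [h8]
        have h11 : ψ (ent (a x) (j x)) * ((h10.unit⁻¹ : Cˣ) : C) = 1 := h10.mul_val_inv
        have h12 := congrArg ψ (ent_rel b (a x) l (j x))
        rw [map_mul, map_mul] at h12
        calc ψ (ent b l) = (ψ (ent b l) * ψ (ent (a x) (j x))) * ((h10.unit⁻¹ : Cˣ) : C) := by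
              rw [mul_assoc, h11, mul_one]
          _ = _ := by rw [h12]; ring
      have h7 := h6.comp (lft ((V x).ι ≫ t) f h1)
      rw [e1] at h7
      exact h7
    · exact fun y ↦ ⟨a x, j x, h1 y⟩
  rw [h3]
  have h4 : Smooth (Spec.map (CommRingCat.ofHom (rowHom (r := r) (a x) (j x)))) := by
    rw [HasRingHomProperty.Spec_iff (P := @Smooth)]
    exact smooth_rowHom _ _
  infer_instance

end K58.RankOne
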