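import Groth.Agent.Etbc.H192.CplInt
import Groth.Agent.Ega4B.AnUnram
import Groth.Agent.S0543
import Groth.Agent.S0568
import Mathlib.RingTheory.AdicCompletion.LocalRing
import Mathlib.RingTheory.AdicCompletion.AsTensorProduct
import Mathlib.RingTheory.LocalProperties.Reduced

/-!
# Integrality over a Noetherian local domain and its completion

* `isIntegral_iff` : `A` a domain with fraction field `K`, `B` a faithfully flat `A`-algebra, `R` the total ring
  of fractions of `B_red`: an element of `K` is integral over `A` iff its image in `R` is integral over `B`.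
* `exists_noetherian_model` : for a Noetherian local domain `A` there are a Noetherian ring `N`, integrally closed
  in a ring `R ⊇ N`, and a ring map `φ : K → R` such that the integral closure of `A` in `K` is `φ⁻¹(N)`.
* `exists_colon` : for `x ∈ K` not integral over `A` there is `z = c x` not integral over `A` (`c` integral) such
  that the ideal `{c | c z integral}` of the integral closure is prime, with `t z` integral and `t z z` not integral
  for some integral `t`.
-/

set_option autoImplicit false
universe u v

namespace K58.RedInt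

open Polynomial TensorProduct

/-- Integrality of an element of the fraction field of `A` may be tested in the total ring of fractions of the
reduction of a faithfully flat algebra. -/
theorem isIntegral_iff {A B : Type u} [CommRing A] [IsDomain A]
    [CommRing B] [Algebra A B] [Module.FaithfullyFlat A B] (K : Type v) [Field K] [Algebra A K]
    [IsFractionRing A K] (R : Type u) [CommRing R] [Algebra (B ⧸ nilradical B) R]
    [IsFractionRing (B ⧸ nilradical B) R] [Algebra A R] [IsScalarTower A (B ⧸ nilradical B) R]
    [Algebra K R] [IsScalarTower A K R] (x : K) :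
    IsIntegral (B ⧸ nilradical B) (algebraMap K R x) ↔ IsIntegral A x := by
  have hinjB : Function.Injective (algebraMap A B) := FaithfulSMul.algebraMap_injective A B
  have hnt : Nontrivial B := hinjB.nontrivial
  have hinj : Function.Injective (algebraMap A (B ⧸ nilradical B)) := by
    rw [injective_iff_map_eq_zero]
    intro a ha
    rw [IsScalarTower.algebraMap_apply A B, Ideal.Quotient.algebraMap_eq,
      Ideal.Quotient.eq_zero_iff_mem] at ha
    obtain ⟨n, hn⟩ := ha
    rw [Ideal.zero_eq_bot, Ideal.mem_bot, ← map_pow, map_eq_zero_iff _ hinjB] at hn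
    exact IsNilpotent.eq_zero ⟨n, hn⟩
  constructor
  · rintro ⟨p, hp, hpx⟩
    obtain ⟨G, hG, -, hGm⟩ := Polynomial.lifts_and_natDegree_eq_and_monic
      (f := Ideal.Quotient.mk (nilradical B)) (p := p)
      (Polynomial.mem_lifts p |>.2 (Polynomial.map_surjective _ Ideal.Quotient.mk_surjective p)) hp
    obtain ⟨a, s, hs, rfl⟩ := IsFractionRing.div_surjective (A := A) x
    have hs0 : s ≠ 0 := nonZeroDivisors.ne_zero hs
    have hsK : algebraMap A K s ≠ 0 :=
      (map_ne_zero_iff _ (IsFractionRing.injective A K)).2 hs0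
    set b : B := (G.scaleRoots (algebraMap A B s)).eval (algebraMap A B a) with hb
    have hnt2 : Nontrivial (B ⧸ nilradical B) := hinj.nontrivial
    have hbnil : b ∈ nilradical B := by
      rw [← Ideal.Quotient.eq_zero_iff_mem]
      apply IsFractionRing.injective (B ⧸ nilradical B) R
      rw [map_zero, hb, ← Polynomial.eval₂_hom, Polynomial.eval₂_eq_eval_map,
        Polynomial.map_scaleRoots _ _ _ (by rw [hGm.leadingCoeff, map_one]; exact one_ne_zero), hG,
        ← Polynomial.eval₂_hom]
      have h1 : (algebraMap (B ⧸ nilradical B) R) ((Ideal.Quotient.mk (nilradical B)) (algebraMap A B a)) =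
          algebraMap (B ⧸ nilradical B) R ((Ideal.Quotient.mk (nilradical B)) (algebraMap A B s)) *
            algebraMap K R (algebraMap A K a / algebraMap A K s) := by
        have e : ∀ t : A, (algebraMap (B ⧸ nilradical B) R)
            ((Ideal.Quotient.mk (nilradical B)) (algebraMap A B t)) =
            algebraMap K R (algebraMap A K t) := by
          intro t
          rw [← IsScalarTower.algebraMap_apply A K R,
            IsScalarTower.algebraMap_apply A (B ⧸ nilradical B) R]
          rfl
        rw [e, e, ← map_mul, mul_div_cancel₀ _ hsK]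
      rw [h1, Polynomial.scaleRoots_eval₂_mul, hpx, mul_zero]
    obtain ⟨N, hN⟩ := hbnil
    refine Groth.Agent.Etbc.H192.CplInt.isIntegral_of_scaleRoots (S := B) s a (G ^ N) (hGm.pow N) ?_
      _ (mul_div_cancel₀ _ hsK) hsK
    rw [Polynomial.pow_scaleRoots' _ _ _ (by rw [hGm.leadingCoeff, one_pow]; exact one_ne_zero),
      Polynomial.eval_pow]
    exact hN
  · intro hx
    have h1 : IsIntegral A (algebraMap K R x) :=
      hx.map (IsScalarTower.toAlgHom A K R)
    exact h1.tower_top

/-- Nonzero elements of `A` are nonzerodivisors in the reduction of a flat algebra. -/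
theorem mem_nonZeroDivisors_red {A B : Type u} [CommRing A] [IsDomain A]
    [CommRing B] [Algebra A B] [Module.Flat A B] (a : A) (ha : a ≠ 0) :
    algebraMap A (B ⧸ nilradical B) a ∈ nonZeroDivisors (B ⧸ nilradical B) := by
  have hr : ∀ n : ℕ, IsSMulRegular B (algebraMap A B (a ^ n)) := by
    intro n
    have h1 : IsSMulRegular A (a ^ n) := fun b c hbc ↦ mul_left_cancel₀ (pow_ne_zero n ha) hbc
    exact h1.of_flat
  rw [mem_nonZeroDivisors_iff_right]
  intro c hc
  obtain ⟨c, rfl⟩ := Ideal.Quotient.mk_surjective c
  rw [IsScalarTower.algebraMap_apply A B, Ideal.Quotient.algebraMap_eq, ← map_mul,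
    Ideal.Quotient.eq_zero_iff_mem] at hc
  rw [Ideal.Quotient.eq_zero_iff_mem]
  obtain ⟨n, hn⟩ := hc
  refine ⟨n, ?_⟩
  apply hr n
  simp only [smul_eq_mul, mul_zero]
  rw [map_pow, mul_comm, ← mul_pow]
  exact hn

/-- For a Nagata-like ring `B` (all quotients by primes N-2), the integral closure of `B` in the total ring of
fractions of `B_red` is finite. -/
theorem finite_integralClosure_totalFractions (B : Type u) [CommRing B] [IsNoetherianRing B]
    (hN : ∀ (p : Ideal B) [p.IsPrime], CAlg.IsN2 (B ⧸ p))
    (R : Type u) [CommRing R] [Algebra (B ⧸ nilradical B) R]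
    [IsFractionRing (B ⧸ nilradical B) R] [Algebra B R] [IsScalarTower B (B ⧸ nilradical B) R] :
    Module.Finite B (integralClosure B R) := by
  have hredC : IsReduced (B ⧸ nilradical B) := by
    rw [← Ideal.isRadical_iff_quotient_reduced]
    exact Ideal.radical_isRadical _
  have hred : IsReduced R := isReduced_localizationPreserves (nonZeroDivisors (B ⧸ nilradical B)) R hredC
  have hredT : IsReduced (B ⊗[B] R) :=
    isReduced_of_injective (Algebra.TensorProduct.lid B R) (Algebra.TensorProduct.lid B R).injective
  refine Groth.Agent.Ega4B.AnUnram.finite_integralClosure_of_isReduced_tensor B B hN R ∅ (by simp) ?_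
  intro l
  obtain ⟨a, s, rfl⟩ := IsLocalization.exists_mk'_eq (nonZeroDivisors (B ⧸ nilradical B)) l
  obtain ⟨s, hs⟩ := s
  obtain ⟨s, rfl⟩ := Ideal.Quotient.mk_surjective s
  obtain ⟨a, rfl⟩ := Ideal.Quotient.mk_surjective a
  refine ⟨algebraMap B R s, Subalgebra.algebraMap_mem _ _, ?_, ?_⟩
  · rw [IsScalarTower.algebraMap_apply B (B ⧸ nilradical B) R]
    exact IsLocalization.map_units R (⟨_, hs⟩ : nonZeroDivisors (B ⧸ nilradical B))
  · have h1 : IsLocalization.mk' R (Ideal.Quotient.mk (nilradical B) a)
        (⟨_, hs⟩ : nonZeroDivisors (B ⧸ nilradical B)) * algebraMap B R s = algebraMap B R a := by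
      rw [IsScalarTower.algebraMap_apply B (B ⧸ nilradical B) R,
        IsScalarTower.algebraMap_apply B (B ⧸ nilradical B) R]
      exact IsLocalization.mk'_spec _ _ _
    rw [h1]
    exact Subalgebra.algebraMap_mem _ _

open IsLocalRing in
/-- The integral closure of a Noetherian local domain is the preimage of a Noetherian ring integrally closed in an
overring. -/
theorem exists_noetherian_model (A : Type u) [CommRing A] [IsDomain A] [IsLocalRing A] [IsNoetherianRing A]
    (K : Type v) [Field K] [Algebra A K] [IsFractionRing A K] :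
    ∃ (N R : Type u) (_ : CommRing N) (_ : CommRing R) (_ : Algebra N R) (φ : K →+* R),
      IsNoetherianRing N ∧ Function.Injective (algebraMap N R) ∧
      (∀ r : R, IsIntegral N r → r ∈ (algebraMap N R).range) ∧
      (∀ z : K, IsIntegral A z ↔ φ z ∈ (algebraMap N R).range) := by
  let B := AdicCompletion (maximalIdeal A) A
  have hNoeth : IsNoetherianRing (AdicCompletion (maximalIdeal A) A) :=
    Groth.Agent.S0543.result A (maximalIdeal A)
  have hff : Module.FaithfullyFlat A (AdicCompletion (maximalIdeal A) A) :=
    Module.FaithfullyFlat.of_flat_of_isLocalHom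
  have hNag : CAlg.IsNagata (AdicCompletion (maximalIdeal A) A) := Groth.Agent.S0568.result _
  let C := B ⧸ nilradical B
  let R := FractionRing C
  have hfin : Module.Finite B (integralClosure B R) :=
    finite_integralClosure_totalFractions B hNag.2 R
  have hu : ∀ y : nonZeroDivisors A, IsUnit (algebraMap A R y) := by
    intro y
    rw [IsScalarTower.algebraMap_apply A C R]
    exact IsLocalization.map_units R (⟨_, mem_nonZeroDivisors_red (A := A) (B := B) y.1
      (nonZeroDivisors.ne_zero y.2)⟩ : nonZeroDivisors C)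
  let φ : K →+* R := IsLocalization.lift (M := nonZeroDivisors A) hu
  let _ : Algebra K R := φ.toAlgebra
  have hT : IsScalarTower A K R := IsScalarTower.of_algebraMap_eq fun a ↦
    (IsLocalization.lift_eq hu a).symm
  have hBC : ∀ r : R, IsIntegral B r ↔ IsIntegral C r := fun r ↦
    ⟨fun h ↦ h.tower_top, fun h ↦ isIntegral_trans (R := B) (A := C) (B := R) r h⟩
  refine ⟨integralClosure B R, R, inferInstance, inferInstance, inferInstance, φ,
    IsNoetherianRing.of_finite B _, Subtype.val_injective, ?_, ?_⟩
  · intro r hr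
    have h1 : IsIntegral B r := isIntegral_trans r hr
    exact ⟨⟨r, h1⟩, rfl⟩
  · intro z
    rw [← isIntegral_iff (A := A) (B := B) K R z, ← hBC]
    constructor
    · intro h
      exact ⟨⟨_, h⟩, rfl⟩
    · rintro ⟨y, hy⟩
      have h2 := y.2
      have h3 : (y : R) = algebraMap K R z := hy
      rw [← h3]
      exact h2

/-- The key step of the Mori–Nagata theorem in elementary form. -/
theorem exists_colon {K : Type v} [Field K] (T : Subring K) {N R : Type u} [CommRing N] [CommRing R]
    [Algebra N R] [IsNoetherianRing N] (φ : K →+* R)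
    (hint : ∀ r : R, IsIntegral N r → r ∈ (algebraMap N R).range)
    (hT : ∀ z : K, z ∈ T ↔ φ z ∈ (algebraMap N R).range)
    (x : K) (hx : x ∉ T) (b : K) (hb : b ∈ T) (hb0 : b ≠ 0) (hbx : b * x ∈ T) :
    ∃ z : K, (∃ c ∈ T, z = c * x) ∧ z ∉ T ∧
      (∀ c ∈ T, ∀ d ∈ T, c * d * z ∈ T → c * z ∈ T ∨ d * z ∈ T) ∧
      ∃ t ∈ T, t * z ∈ T ∧ t * z * z ∉ T := by
  -- the colon ideals
  let J : K → Ideal N := fun z ↦
    { carrier := {c | algebraMap N R c * φ z ∈ (algebraMap N R).range}
      add_mem' := fun {a b} ha hb ↦ by
        simp only [Set.mem_ofPred_eq] at ha hb ⊢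
        rw [map_add, add_mul]
        exact add_mem ha hb
      zero_mem' := by
        simp only [Set.mem_ofPred_eq, map_zero, zero_mul]
        exact zero_mem _
      smul_mem' := fun c a ha ↦ by
        simp only [Set.mem_ofPred_eq] at ha ⊢
        rw [smul_eq_mul, map_mul, mul_assoc]
        exact mul_mem ⟨c, rfl⟩ ha }
  have hJmem : ∀ (z : K) (c : N), c ∈ J z ↔ algebraMap N R c * φ z ∈ (algebraMap N R).range :=
    fun _ _ ↦ Iff.rfl
  let S : Set (Ideal N) := {I | ∃ z : K, (∃ c ∈ T, z = c * x) ∧ z ∉ T ∧ I = J z}
  have hS : S.Nonempty := ⟨J x, x, ⟨1, T.one_mem, (one_mul x).symm⟩, hx, rfl⟩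
  obtain ⟨I, hIS, hImax⟩ := set_has_maximal_iff_noetherian.2 (inferInstance : IsNoetherian N N) S hS
  obtain ⟨z, ⟨c₀, hc₀, hz⟩, hzT, rfl⟩ := hIS
  refine ⟨z, ⟨c₀, hc₀, hz⟩, hzT, ?_, ?_⟩
  · intro c hc d hd hcd
    by_contra hcon
    push Not at hcon
    obtain ⟨hcz, hdz⟩ := hcon
    have h1 : J (d * z) ∈ S := ⟨d * z, ⟨d * c₀, mul_mem hd hc₀, by rw [hz]; ring⟩, hdz, rfl⟩
    have h2 : J z ≤ J (d * z) := by
      intro y hy
      rw [hJmem] at hy ⊢
      rw [map_mul, mul_left_comm]
      exact mul_mem ((hT d).1 hd) hy
    have h3 : J (d * z) = J z := by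
      by_contra hne
      exact hImax _ h1 (lt_of_le_of_ne h2 (Ne.symm hne))
    obtain ⟨c', hc'⟩ := (hT c).1 hc
    have h4 : c' ∈ J (d * z) := by
      rw [hJmem, hc', ← map_mul, ← mul_assoc]
      exact (hT _).1 hcd
    rw [h3, hJmem, hc', ← map_mul] at h4
    exact hcz ((hT _).2 h4)
  · by_contra hcon
    push Not at hcon
    have hbz : b * z ∈ T := by
      rw [hz, mul_left_comm]
      exact mul_mem hc₀ hbx
    have hbn : ∀ n : ℕ, b * z ^ n ∈ T := by
      have : ∀ n : ℕ, b * z ^ n ∈ T ∧ b * z ^ (n + 1) ∈ T := by
        intro n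
        induction n with
        | zero => exact ⟨by rw [pow_zero, mul_one]; exact hb, by rw [zero_add, pow_one]; exact hbz⟩
        | succ n ih =>
          refine ⟨ih.2, ?_⟩
          have h5 := hcon (b * z ^ n) ih.1 (by
            have : b * z ^ n * z = b * z ^ (n + 1) := by ring
            rw [this]; exact ih.2)
          have : b * z ^ (n + 1 + 1) = b * z ^ n * z * z := by ring
          rw [this]; exact h5
      exact fun n ↦ (this n).1
    -- `φ z` is integral over `N`
    apply hzT
    rw [hT]
    apply hint
    have hub : IsUnit (φ b) := (isUnit_iff_ne_zero.2 hb0).map φ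
    obtain ⟨ub, hub'⟩ := hub
    let M : Submodule N R := (Submodule.span N {((ub⁻¹ : Rˣ) : R)})
    have hM : IsNoetherian N M := isNoetherian_span_of_finite N (Set.finite_singleton _)
    have hle : Subalgebra.toSubmodule (Algebra.adjoin N {φ z}) ≤ M := by
      intro y hy
      rw [Subalgebra.mem_toSubmodule, Algebra.adjoin_singleton_eq_range_aeval] at hy
      obtain ⟨p, rfl⟩ := hy
      change Polynomial.aeval (φ z) p ∈ M
      rw [Polynomial.aeval_eq_sum_range]
      refine sum_mem fun i _ ↦ Submodule.smul_mem _ _ ?_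
      obtain ⟨y, hy⟩ := (hT _).1 (hbn i)
      rw [map_mul, map_pow, ← hub'] at hy
      have : φ z ^ i = y • ((ub⁻¹ : Rˣ) : R) := by
        rw [Algebra.smul_def, hy, mul_right_comm, Units.mul_inv, one_mul]
      rw [this]
      exact Submodule.smul_mem _ _ (Submodule.mem_span_singleton_self _)
    exact isIntegral_of_submodule_noetherian (Algebra.adjoin N {φ z})
      (isNoetherian_of_le hle) _ (Algebra.self_mem_adjoin_singleton N (φ z))

end K58.RedInt
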