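import Groth.Agent.CAlg.K58.ZPt

/-!
# Morphisms to `P^N_ℤ` given by matrices of rank one

`IsRow t w p`: for `t : T ⟶ Spec B`, `w` a matrix over `B`, the morphism `p : T ⟶ P^N_ℤ` is given by the rows of `w`
wherever these have an invertible entry.
-/

set_option autoImplicit false
universe u

open CategoryTheory AlgebraicGeometry MvPolynomial

namespace K58.RowPt

open Groth.Agent.Sga5.ProjChart Groth.Agent.Sga7.H132.ProjPts K58.ZPt

variable {N : ℕ}

section Aux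

variable {T : Scheme.{u}} {B : Type u} [CommRing B]

/-- The localization. -/
noncomputable abbrev loc (f : B) : Spec (CommRingCat.of (Localization.Away f)) ⟶ Spec (CommRingCat.of B) :=
  Spec.map (CommRingCat.ofHom (algebraMap B (Localization.Away f)))

instance (f : B) : IsOpenImmersion (loc f) :=
  inferInstanceAs (IsOpenImmersion (Spec.map (CommRingCat.ofHom (algebraMap B (Localization.Away f)))))

theorem range_loc (f : B) : Set.range (loc f) = {x | f ∉ x.asIdeal} :=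
  PrimeSpectrum.localization_away_comap_range (Localization.Away f) f

theorem range_subset {t : T ⟶ Spec (CommRingCat.of B)} {f : B} (h : ∀ x : T, f ∉ (t x).asIdeal) :
    Set.range t ⊆ Set.range (loc f) := by
  rw [range_loc]
  rintro _ ⟨x, rfl⟩
  exact h x

/-- The lift to the localization. -/
noncomputable def lft (t : T ⟶ Spec (CommRingCat.of B)) (f : B) (h : ∀ x : T, f ∉ (t x).asIdeal) :
    T ⟶ Spec (CommRingCat.of (Localization.Away f)) :=
  IsOpenImmersion.lift (loc f) t (range_subset h)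

theorem lft_loc (t : T ⟶ Spec (CommRingCat.of B)) (f : B) (h : ∀ x : T, f ∉ (t x).asIdeal) :
    lft t f h ≫ loc f = t :=
  IsOpenImmersion.lift_fac _ _ _

theorem lft_unique (t : T ⟶ Spec (CommRingCat.of B)) (f : B) (h : ∀ x : T, f ∉ (t x).asIdeal)
    (s : T ⟶ Spec (CommRingCat.of (Localization.Away f))) (hs : s ≫ loc f = t) : s = lft t f h := by
  rw [← cancel_mono (loc f), hs, lft_loc]

end Aux

variable {T : Scheme.{u}} {B : Type u} [CommRing B]

/-- The morphism with homogeneous coordinates `v`, where `v j` does not vanish. -/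
noncomputable def mp (t : T ⟶ Spec (CommRingCat.of B)) (v : Fin (N + 1) → B) (j : Fin (N + 1))
    (h : ∀ x : T, v j ∉ (t x).asIdeal) : T ⟶ CohB1.ProjSpace N Z.{u} :=
  lft t (v j) h ≫ pt (fun l ↦ algebraMap B (Localization.Away (v j)) (v l)) j
    (IsLocalization.Away.algebraMap_isUnit (v j))

theorem comp_mp {T' : Scheme.{u}} (s : T' ⟶ T) (t : T ⟶ Spec (CommRingCat.of B)) (v : Fin (N + 1) → B)
    (j : Fin (N + 1)) (h : ∀ x : T, v j ∉ (t x).asIdeal) (h' : ∀ x : T', v j ∉ ((s ≫ t) x).asIdeal) :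
    s ≫ mp t v j h = mp (s ≫ t) v j h' := by
  rw [mp, mp, ← Category.assoc]
  congr 1
  refine lft_unique _ _ _ _ ?_
  rw [Category.assoc, lft_loc]

theorem mp_congr {t t' : T ⟶ Spec (CommRingCat.of B)} (e : t = t') (v : Fin (N + 1) → B)
    (j : Fin (N + 1)) (h : ∀ x : T, v j ∉ (t x).asIdeal) (h' : ∀ x : T, v j ∉ (t' x).asIdeal) :
    mp t v j h = mp t' v j h' := by
  subst e
  rfl

theorem mp_spec {C : Type u} [CommRing C] (ψ : B →+* C) (v : Fin (N + 1) → B) (j : Fin (N + 1))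
    (h : ∀ x : Spec (CommRingCat.of C), v j ∉ ((Spec.map (CommRingCat.ofHom ψ)) x).asIdeal)
    (hj : IsUnit (ψ (v j))) :
    mp (Spec.map (CommRingCat.ofHom ψ)) v j h = pt (fun l ↦ ψ (v l)) j hj := by
  let ψ' : Localization.Away (v j) →+* C := IsLocalization.Away.lift (v j) hj
  have hψ' : ψ'.comp (algebraMap B _) = ψ := IsLocalization.Away.lift_comp (v j) hj
  have hψ'' : ∀ b, ψ' (algebraMap B _ b) = ψ b := fun b ↦ DFunLike.congr_fun hψ' b
  have h1 : lft (Spec.map (CommRingCat.ofHom ψ)) (v j) h = Spec.map (CommRingCat.ofHom ψ') := by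
    refine (lft_unique _ _ _ _ ?_).symm
    rw [loc, ← Spec.map_comp, ← CommRingCat.ofHom_comp, hψ']
  have hj' : IsUnit (ψ' (algebraMap B _ (v j))) := by rw [hψ'']; exact hj
  rw [mp, h1, spec_pt ψ' _ j _ hj']
  simp only [hψ'']

theorem isUnit_of_forall_notMem {C : Type u} [CommRing C] (c : C) (h : ∀ x : PrimeSpectrum C, c ∉ x.asIdeal) :
    IsUnit c := by
  by_contra hc
  obtain ⟨m, hm, hcm⟩ := exists_max_ideal_of_mem_nonunits hc
  exact h ⟨m, hm.isPrime⟩ hcm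

theorem mp_eq (t : T ⟶ Spec (CommRingCat.of B)) (v w : Fin (N + 1) → B) (i j : Fin (N + 1))
    (h : ∀ x : T, v i ∉ (t x).asIdeal) (h' : ∀ x : T, w j ∉ (t x).asIdeal)
    (hvw : ∀ l, w l * v i = w i * v l) : mp t v i h = mp t w j h' := by
  let f := v i * w j
  have hf : ∀ x : T, f ∉ (t x).asIdeal := fun x hx ↦
    ((t x).isPrime.mem_or_mem hx).elim (h x) (h' x)
  let C := Localization.Away f
  have hfC : IsUnit (algebraMap B C f) := IsLocalization.Away.algebraMap_isUnit f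
  have hv : IsUnit (algebraMap B C (v i)) := isUnit_of_mul_isUnit_left (y := algebraMap B C (w j)) (by
    rw [← map_mul]; exact hfC)
  have hw : IsUnit (algebraMap B C (w j)) := isUnit_of_mul_isUnit_right (x := algebraMap B C (v i)) (by
    rw [← map_mul]; exact hfC)
  have e : lft t f hf ≫ loc f = t := lft_loc t f hf
  have h1 : ∀ x : Spec (CommRingCat.of C), v i ∉ ((loc f) x).asIdeal := fun x hx ↦
    x.isPrime.ne_top (Ideal.eq_top_of_isUnit_mem _ hx hv)
  have h2 : ∀ x : Spec (CommRingCat.of C), w j ∉ ((loc f) x).asIdeal := fun x hx ↦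
    x.isPrime.ne_top (Ideal.eq_top_of_isUnit_mem _ hx hw)
  have h3 : mp t v i h = lft t f hf ≫ mp (loc f) v i h1 := by
    rw [comp_mp _ _ _ _ _ (by rw [e]; exact h)]
    exact mp_congr e.symm _ _ _ _
  have h4 : mp t w j h' = lft t f hf ≫ mp (loc f) w j h2 := by
    rw [comp_mp _ _ _ _ _ (by rw [e]; exact h')]
    exact mp_congr e.symm _ _ _ _
  rw [h3, h4, mp_spec _ _ _ _ hv, mp_spec _ _ _ _ hw]
  congr 1
  refine pt_eq _ _ _ _ _ _ (((hv.unit⁻¹ : Cˣ) : C) * algebraMap B C (w i)) fun l ↦ ?_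
  have h5 : algebraMap B C (v i) * ((hv.unit⁻¹ : Cˣ) : C) = 1 := hv.mul_val_inv
  have h6 := congrArg (algebraMap B C) (hvw l)
  rw [map_mul, map_mul] at h6
  calc algebraMap B C (w l) = (algebraMap B C (w l) * algebraMap B C (v i)) * ((hv.unit⁻¹ : Cˣ) : C) := by
        rw [mul_assoc, h5, mul_one]
    _ = _ := by rw [h6]; ring

/-- `p` is given by the rows of the matrix `w`. -/
def IsRow {ρ : Type} (t : T ⟶ Spec (CommRingCat.of B)) (w : ρ → Fin (N + 1) → B)
    (p : T ⟶ CohB1.ProjSpace N Z.{u}) : Prop :=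
  ∀ (C : Type u) [CommRing C] (ψ : B →+* C) (a : ρ) (j : Fin (N + 1)) (h : IsUnit (ψ (w a j)))
    (g : Spec (CommRingCat.of C) ⟶ T), g ≫ t = Spec.map (CommRingCat.ofHom ψ) →
    g ≫ p = pt (fun l ↦ ψ (w a l)) j h

theorem IsRow.comp {ρ : Type} {t : T ⟶ Spec (CommRingCat.of B)} {w : ρ → Fin (N + 1) → B}
    {p : T ⟶ CohB1.ProjSpace N Z.{u}} (h : IsRow t w p) {T' : Scheme.{u}} (s : T' ⟶ T) :
    IsRow (s ≫ t) w (s ≫ p) := by
  intro C _ ψ a j hj g hg
  rw [← Category.assoc]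
  exact h C ψ a j hj _ (by rw [Category.assoc, hg])

theorem IsRow.base {ρ : Type} {B' : Type u} [CommRing B'] (φ : B →+* B') {t : T ⟶ Spec (CommRingCat.of B')}
    {w : ρ → Fin (N + 1) → B} {p : T ⟶ CohB1.ProjSpace N Z.{u}}
    (h : IsRow (t ≫ Spec.map (CommRingCat.ofHom φ)) w p) : IsRow t (fun a j ↦ φ (w a j)) p := by
  intro C _ ψ a j hj g hg
  refine h C (ψ.comp φ) a j hj g ?_
  rw [← Category.assoc, hg, ← Spec.map_comp, ← CommRingCat.ofHom_comp]

theorem IsRow.eq {ρ : Type} {t : T ⟶ Spec (CommRingCat.of B)} {w : ρ → Fin (N + 1) → B}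
    {p p' : T ⟶ CohB1.ProjSpace N Z.{u}} (h : IsRow t w p) (h' : IsRow t w p')
    (hc : ∀ x : T, ∃ a j, w a j ∉ (t x).asIdeal) : p = p' := by
  choose a j hj using hc
  have key : ∀ x : T, ∃ V : T.Opens, x ∈ V ∧ V.ι ≫ p = V.ι ≫ p' := by
    intro x
    let O : T.Opens := t ⁻¹ᵁ (PrimeSpectrum.basicOpen (w (a x) (j x)))
    obtain ⟨V, hV, hxV, hVO⟩ := exists_isAffineOpen_mem_and_subset (x := x) (U := O) (hj x)
    refine ⟨V, hxV, ?_⟩
    have hT : ∀ g : Spec Γ(T, V) ⟶ T, (∀ y, g y ∈ O) → g ≫ p = g ≫ p' := by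
      intro g hg
      obtain ⟨ψ, hψ⟩ := Spec.map_surjective (g ≫ t)
      have hu : IsUnit (ψ.hom (w (a x) (j x))) := by
        refine isUnit_of_forall_notMem _ fun y hy ↦ ?_
        have h1 := hg y
        have h2 : (t (g y)).asIdeal = (Spec.map ψ y).asIdeal := by
          rw [hψ]
          rfl
        have h3 : w (a x) (j x) ∉ (t (g y)).asIdeal := h1
        rw [h2] at h3
        exact h3 hy
      rw [h Γ(T, V) ψ.hom (a x) (j x) hu g hψ.symm, h' Γ(T, V) ψ.hom (a x) (j x) hu g hψ.symm]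
    have h1 : hV.fromSpec ≫ p = hV.fromSpec ≫ p' := hT _ fun y ↦ hVO (by
      have : hV.fromSpec y ∈ Set.range hV.fromSpec := ⟨y, rfl⟩
      rw [hV.range_fromSpec] at this
      exact this)
    have h2 := hV.isoSpec_hom_fromSpec
    rw [← h2, Category.assoc, Category.assoc, h1]
  choose V hV h3 using key
  refine Scheme.Cover.hom_ext (T.openCoverOfIsOpenCover V (by
    rw [TopologicalSpace.IsOpenCover, eq_top_iff]
    intro x _
    exact TopologicalSpace.Opens.mem_iSup.2 ⟨x, hV x⟩)) _ _ fun x ↦ h3 x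

theorem exists_isRow {ρ : Type} (t : T ⟶ Spec (CommRingCat.of B)) (w : ρ → Fin (N + 1) → B)
    (hw : ∀ a b i j, w a i * w b j = w a j * w b i) (hc : ∀ x : T, ∃ a j, w a j ∉ (t x).asIdeal) :
    ∃ p : T ⟶ CohB1.ProjSpace N Z.{u}, IsRow t w p := by
  let U : ρ × Fin (N + 1) → T.Opens := fun x ↦ t ⁻¹ᵁ (PrimeSpectrum.basicOpen (w x.1 x.2))
  have hU : ∀ x : T, ∃ i, x ∈ U i := fun x ↦ by
    obtain ⟨a, j, h⟩ := hc x
    exact ⟨(a, j), h⟩
  let f : ∀ i, (U i).toScheme ⟶ CohB1.ProjSpace N Z.{u} := fun i ↦ mp ((U i).ι ≫ t) (w i.1) i.2 fun x ↦ x.2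
  obtain ⟨p, hp⟩ : ∃ g : T ⟶ CohB1.ProjSpace N Z.{u}, ∀ i, (U i).ι ≫ g = f i := by
    suffices h : ∃ g : T ⟶ CohB1.ProjSpace N Z.{u}, ∀ i : ULift.{u} (ρ × Fin (N + 1)), (U i.down).ι ≫ g = f i.down by
      obtain ⟨g, hg⟩ := h
      exact ⟨g, fun i ↦ hg ⟨i⟩⟩
    refine Groth.Agent.Sga3C.QuotGlue.exists_glue (fun i : ULift.{u} (ρ × Fin (N + 1)) ↦ U i.down)
      (fun x ↦ by obtain ⟨i, hi⟩ := hU x; exact ⟨⟨i⟩, hi⟩) (fun i ↦ f i.down) ?_
    rintro ⟨x⟩ ⟨y⟩
    change Limits.pullback.fst (U x).ι (U y).ι ≫ f x = Limits.pullback.snd (U x).ι (U y).ι ≫ f y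
    have h1 : ∀ z : ↥(Limits.pullback (U x).ι (U y).ι), w x.1 x.2 ∉
        ((Limits.pullback.fst (U x).ι (U y).ι ≫ (U x).ι ≫ t) z).asIdeal := fun z ↦
      (Limits.pullback.fst (U x).ι (U y).ι z).2
    have h2 : ∀ z : ↥(Limits.pullback (U x).ι (U y).ι), w y.1 y.2 ∉
        ((Limits.pullback.snd (U x).ι (U y).ι ≫ (U y).ι ≫ t) z).asIdeal := fun z ↦
      (Limits.pullback.snd (U x).ι (U y).ι z).2
    have e : Limits.pullback.snd (U x).ι (U y).ι ≫ (U y).ι ≫ t = Limits.pullback.fst (U x).ι (U y).ι ≫ (U x).ι ≫ t := by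
      rw [Limits.pullback.condition_assoc]
    have h2' : ∀ z : ↥(Limits.pullback (U x).ι (U y).ι), w y.1 y.2 ∉
        ((Limits.pullback.fst (U x).ι (U y).ι ≫ (U x).ι ≫ t) z).asIdeal := by
      rw [← e]
      exact h2
    rw [comp_mp _ _ _ _ _ h1, comp_mp _ _ _ _ _ h2, mp_congr e _ _ _ h2']
    refine mp_eq _ _ _ _ _ _ _ fun l ↦ ?_
    exact hw _ _ _ _
  refine ⟨p, fun C _ ψ a j h g hg ↦ ?_⟩
  have h0 : ∀ y, g y ∈ U (a, j) := by
    intro y hy
    have h1 : w a j ∈ ((g ≫ t) y).asIdeal := hy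
    rw [hg] at h1
    exact y.isPrime.ne_top (Ideal.eq_top_of_isUnit_mem _ h1 h)
  let g' : Spec (CommRingCat.of C) ⟶ (U (a, j)).toScheme := IsOpenImmersion.lift (U (a, j)).ι g (by
    rw [Scheme.Opens.range_ι]
    rintro _ ⟨y, rfl⟩
    exact h0 y)
  have hg' : g' ≫ (U (a, j)).ι = g := IsOpenImmersion.lift_fac _ _ _
  have e2 : g' ≫ (U (a, j)).ι ≫ t = Spec.map (CommRingCat.ofHom ψ) := by
    rw [← Category.assoc, hg', hg]
  have h5 : ∀ x : Spec (CommRingCat.of C), w a j ∉ ((Spec.map (CommRingCat.ofHom ψ)) x).asIdeal := fun x hx ↦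
    x.isPrime.ne_top (Ideal.eq_top_of_isUnit_mem _ hx h)
  rw [← hg', Category.assoc, hp]
  change g' ≫ mp _ _ _ _ = _
  rw [comp_mp _ _ _ _ _ (by rw [e2]; exact h5), mp_congr e2 _ _ _ h5, mp_spec _ _ _ _ h]

end K58.RowPt
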