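import Groth.Agent.Fga.QA4BC
import Groth.Agent.FlatA.GenericFree2
import Groth.Agent.FlatB.GenFibA
import Groth.Agent.CAlg.K58.NoethBd
import Mathlib.RingTheory.Flat.Equalizer
import Mathlib.RingTheory.Flat.Localization

/-!
# Syzygies over polynomial rings: generic base change and uniform degree bounds
-/

set_option autoImplicit false
universe u

open TensorProduct MvPolynomial Groth.Agent.Fga Groth.Agent.FlatB Groth.Agent.FlatA

namespace K58.Syz

/-- Injectivity is preserved by base change to an algebra in which `f` is invertible when the cokernel is flat after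
inverting `f`. -/
theorem lTensor_injective {A : Type u} [CommRing A] (f : A) {X Y : Type u} [AddCommGroup X] [Module A X]
    [AddCommGroup Y] [Module A Y] (i : X →ₗ[A] Y) (hi : Function.Injective i)
    [Module.Flat (Localization.Away f) (Localization.Away f ⊗[A] (Y ⧸ LinearMap.range i))]
    (T : Type u) [CommRing T] [Algebra A T] (hT : IsUnit (algebraMap A T f)) :
    Function.Injective (i.lTensor T) := by
  obtain ⟨_, _⟩ := GenFibA.exists_algebra_away f T hT
  let D := Localization.Away f
  have : Module.Flat A D := IsLocalization.flat _ (Submonoid.powers f)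
  let φ : D ⊗[A] X →ₗ[D] D ⊗[A] Y := i.baseChange D
  let π : D ⊗[A] Y →ₗ[D] D ⊗[A] (Y ⧸ LinearMap.range i) := (LinearMap.range i).mkQ.baseChange D
  have hφinj : Function.Injective φ := Module.Flat.lTensor_preserves_injective_linearMap i hi
  have hex0 : Function.Exact i (LinearMap.range i).mkQ := by
    rw [LinearMap.exact_iff, Submodule.ker_mkQ]
  have hsurj : Function.Surjective (LinearMap.range i).mkQ := Submodule.mkQ_surjective _
  have hex : Function.Exact φ π := lTensor_exact D hex0 hsurj
  have hπ : Function.Surjective π := LinearMap.lTensor_surjective D hsurj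
  have key := LinearMap.lTensor_injective_of_exact_of_flat π hπ φ hφinj hex T
  let eX : T ⊗[D] (D ⊗[A] X) ≃ₗ[T] T ⊗[A] X := TensorProduct.AlgebraTensorModule.cancelBaseChange A D T T X
  let eY : T ⊗[D] (D ⊗[A] Y) ≃ₗ[T] T ⊗[A] Y := TensorProduct.AlgebraTensorModule.cancelBaseChange A D T T Y
  have hcomm : ∀ z, eY (φ.lTensor T z) = i.lTensor T (eX z) := by
    intro z
    induction z with
    | zero => simp
    | add x y hx hy => simp only [map_add, hx, hy]
    | tmul t w =>
      induction w with
      | zero => simp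
      | add x y hx hy => simp only [map_add, tmul_add, hx, hy]
      | tmul d x => simp [eX, eY, φ]
  intro x y hxy
  obtain ⟨x, rfl⟩ := eX.surjective x
  obtain ⟨y, rfl⟩ := eX.surjective y
  rw [← hcomm, ← hcomm] at hxy
  rw [key (eY.injective hxy)]

/-- Kernels commute with base change when the cokernel is flat after inverting `f`: the kernel of `T ⊗ μ` is spanned by
the kernel of `μ`. -/
theorem mem_span_of_lTensor_eq_zero {A : Type u} [CommRing A] (f : A) {X Y : Type u} [AddCommGroup X] [Module A X]
    [AddCommGroup Y] [Module A Y] (μ : X →ₗ[A] Y)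
    [Module.Flat (Localization.Away f) (Localization.Away f ⊗[A] (Y ⧸ LinearMap.range μ))]
    (T : Type u) [CommRing T] [Algebra A T] (hT : IsUnit (algebraMap A T f)) (z : T ⊗[A] X)
    (hz : μ.lTensor T z = 0) :
    z ∈ Submodule.span T ((fun w : X ↦ (1 : T) ⊗ₜ[A] w) '' (LinearMap.ker μ : Set X)) := by
  have hr : LinearMap.range (LinearMap.range μ).subtype = LinearMap.range μ := Submodule.range_subtype _
  have hflat : Module.Flat (Localization.Away f)
      (Localization.Away f ⊗[A] (Y ⧸ LinearMap.range (LinearMap.range μ).subtype)) := by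
    rw [hr]
    infer_instance
  have hinj := lTensor_injective f (LinearMap.range μ).subtype (Submodule.subtype_injective _) T hT
  have h1 : μ.rangeRestrict.lTensor T z = 0 := by
    apply hinj
    rw [map_zero, ← LinearMap.comp_apply, ← LinearMap.lTensor_comp]
    exact hz
  have hex : Function.Exact ((LinearMap.ker μ).subtype.lTensor T) (μ.rangeRestrict.lTensor T) := by
    refine lTensor_exact T ?_ μ.surjective_rangeRestrict
    rw [LinearMap.exact_iff, LinearMap.ker_rangeRestrict, Submodule.range_subtype]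
  obtain ⟨y, rfl⟩ := (hex z).1 h1
  induction y with
  | zero => simp
  | add x y hx hy =>
    have hx' : ∀ y', μ.rangeRestrict.lTensor T ((LinearMap.ker μ).subtype.lTensor T y') = 0 :=
      fun y' ↦ (hex _).2 ⟨y', rfl⟩
    rw [map_add]
    refine Submodule.add_mem _ (hx ?_ (hx' _)) (hy ?_ (hx' _))
    · have := congrArg ((LinearMap.range μ).subtype.lTensor T) (hx' x)
      rw [map_zero, ← LinearMap.comp_apply, ← LinearMap.lTensor_comp] at this
      exact this
    · have := congrArg ((LinearMap.range μ).subtype.lTensor T) (hx' y)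
      rw [map_zero, ← LinearMap.comp_apply, ← LinearMap.lTensor_comp] at this
      exact this
  | tmul t w =>
    rw [LinearMap.lTensor_tmul]
    have : t ⊗ₜ[A] ((LinearMap.ker μ).subtype w) = t • ((1 : T) ⊗ₜ[A] (w : X)) := by
      rw [TensorProduct.smul_tmul', smul_eq_mul, mul_one]
      rfl
    rw [this]
    exact Submodule.smul_mem _ _ (Submodule.subset_span ⟨w, w.2, rfl⟩)

theorem totalDegree_map_le {σ B C : Type*} [CommRing B] [CommRing C] (φ : B →+* C) (p : MvPolynomial σ B) :
    (MvPolynomial.map φ p).totalDegree ≤ p.totalDegree :=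
  Finset.sup_mono (MvPolynomial.support_map_subset φ p)

/-- Kernel of a matrix over `B[T]`. -/
noncomputable abbrev Ker {σ ι κ B : Type*} [CommRing B] [Fintype κ] (M : Matrix ι κ (MvPolynomial σ B)) :
    Submodule (MvPolynomial σ B) (κ → MvPolynomial σ B) := LinearMap.ker M.mulVecLin

/-- Degree bounded part of the kernel. -/
def kerLE {σ ι κ B : Type*} [CommRing B] [Fintype κ] (M : Matrix ι κ (MvPolynomial σ B)) (d : ℕ) :
    Set (κ → MvPolynomial σ B) := {w | M.mulVec w = 0 ∧ ∀ j, (w j).totalDegree ≤ d}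

theorem kerLE_mono {σ ι κ B : Type*} [CommRing B] [Fintype κ] (M : Matrix ι κ (MvPolynomial σ B)) {d d' : ℕ}
    (h : d ≤ d') : kerLE M d ⊆ kerLE M d' := fun _ hw ↦ ⟨hw.1, fun j ↦ (hw.2 j).trans h⟩

/-- Generic bound for syzygies. -/
theorem exists_generic_bound (A : Type u) [CommRing A] [IsDomain A] [IsNoetherianRing A] (σ ι κ : Type) [Finite σ]
    [Fintype ι] [Fintype κ] (M : Matrix ι κ (MvPolynomial σ A)) :
    ∃ a : A, a ≠ 0 ∧ ∃ R : ℕ, ∀ (k : Type u) [Field k] (φ : A →+* k), φ a ≠ 0 →
      Ker (M.map (MvPolynomial.map φ)) ≤ Submodule.span (MvPolynomial σ k) (kerLE (M.map (MvPolynomial.map φ)) R) := by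
  classical
  let μ : (κ → MvPolynomial σ A) →ₗ[A] (ι → MvPolynomial σ A) := M.mulVecLin.restrictScalars A
  obtain ⟨a, ha, hfree⟩ := GenericFree.genFree_of_finiteType.{u, u, u} (R := A) (MvPolynomial σ A)
    ((ι → MvPolynomial σ A) ⧸ LinearMap.range M.mulVecLin)
  have hflat : Module.Flat (Localization.Away a)
      (Localization.Away a ⊗[A] ((ι → MvPolynomial σ A) ⧸ LinearMap.range μ)) := by
    have h1 := hfree.free_tensor (Localization.Away a)
    have e : ((ι → MvPolynomial σ A) ⧸ LinearMap.range M.mulVecLin) ≃ₗ[A]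
        ((ι → MvPolynomial σ A) ⧸ LinearMap.range μ) :=
      (Submodule.Quotient.restrictScalarsEquiv A (LinearMap.range M.mulVecLin)).symm
    have h2 : Module.Flat (Localization.Away a)
      (Localization.Away a ⊗[A] ((ι → MvPolynomial σ A) ⧸ LinearMap.range M.mulVecLin)) := inferInstance
    exact Module.Flat.of_linearEquiv (e.baseChange A (Localization.Away a) _ _).symm
  obtain ⟨s, hs⟩ : (Ker M).FG := IsNoetherian.noetherian _
  let R := s.sup fun w ↦ Finset.univ.sup fun j ↦ (w j).totalDegree
  refine ⟨a, ha, R, fun k _ φ hφ v hv ↦ ?_⟩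
  let : Algebra A k := φ.toAlgebra
  have hφ' : (algebraMap A k) = φ := rfl
  let eκ := (QA4BC.isBaseChange_mapWL (σ := σ) (ι := κ) (A := A) (B := k)).equiv
  let eι := (QA4BC.isBaseChange_mapWL (σ := σ) (ι := ι) (A := A) (B := k)).equiv
  have hcomm : ∀ z : k ⊗[A] (κ → MvPolynomial σ A), eι (μ.lTensor k z) = (M.map (MvPolynomial.map φ)).mulVec (eκ z) := by
    intro z
    induction z with
    | zero => simp
    | add x y hx hy => simp only [map_add, Matrix.mulVec_add, hx, hy]
    | tmul t w =>
      rw [LinearMap.lTensor_tmul, IsBaseChange.equiv_tmul, IsBaseChange.equiv_tmul, Matrix.mulVec_smul]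
      congr 1
      ext1 i
      simp only [QA4BC.mapWL_apply, QA0.mapW_apply, hφ']
      change MvPolynomial.map φ (M.mulVec w i) = _
      simp [Matrix.mulVec, dotProduct]
  have hz : μ.lTensor k (eκ.symm v) = 0 := by
    apply eι.injective
    rw [hcomm, eκ.apply_symm_apply, map_zero]
    exact hv
  have hmem := mem_span_of_lTensor_eq_zero a μ k (isUnit_iff_ne_zero.2 hφ) _ hz
  have h2 := Submodule.mem_map_of_mem (f := eκ.toLinearMap) hmem
  rw [Submodule.map_span] at h2
  have h3 : eκ.toLinearMap (eκ.symm v) = v := eκ.apply_symm_apply v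
  rw [h3] at h2
  suffices h5 : Submodule.span k (eκ.toLinearMap '' ((fun w ↦ (1 : k) ⊗ₜ[A] w) ''
      (LinearMap.ker μ : Set (κ → MvPolynomial σ A)))) ≤
      (Submodule.span (MvPolynomial σ k) (kerLE (M.map (MvPolynomial.map φ)) R)).restrictScalars k from h5 h2
  rw [Submodule.span_le]
  rintro _ ⟨_, ⟨w, hw, rfl⟩, rfl⟩
  rw [SetLike.mem_coe, Submodule.restrictScalars_mem]
  have hw' : w ∈ Submodule.span (MvPolynomial σ A) (s : Set (κ → MvPolynomial σ A)) := by
    rw [hs]; exact hw
  have h4 : eκ.toLinearMap ((1 : k) ⊗ₜ[A] w) = QA0.mapW φ w := by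
    change eκ ((1 : k) ⊗ₜ[A] w) = _
    rw [IsBaseChange.equiv_tmul, one_smul]
    rfl
  change eκ.toLinearMap ((1 : k) ⊗ₜ[A] w) ∈ _
  rw [h4]
  clear h4 hw
  induction hw' using Submodule.span_induction with
  | zero => rw [map_zero]; exact Submodule.zero_mem _
  | add x y _ _ hx hy => rw [map_add]; exact Submodule.add_mem _ hx hy
  | smul c x _ hx => rw [QA0.mapW_smul]; exact Submodule.smul_mem _ _ hx
  | mem x hx =>
    refine Submodule.subset_span ⟨?_, fun j ↦ ?_⟩
    · have h5 : M.mulVec x = 0 := by
        have : x ∈ Ker M := by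
          rw [← hs]
          exact Submodule.subset_span hx
        exact this
      ext1 i
      have h6 := congrArg (MvPolynomial.map φ) (congrFun h5 i)
      simpa [Matrix.mulVec, dotProduct] using h6
    · refine (totalDegree_map_le φ (x j)).trans ?_
      exact (Finset.le_sup (f := fun j ↦ (x j).totalDegree) (Finset.mem_univ j)).trans
        (Finset.le_sup (f := fun w : κ → MvPolynomial σ A ↦ Finset.univ.sup fun j ↦ (w j).totalDegree) hx)

section Univ

variable (N d : ℕ) (ι : Type)

/-- Coefficient ring of the universal family of polynomials of degree at most `d` indexed by `ι`. -/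
abbrev UBase : Type u := MvPolynomial (ι × (Fin N → Fin (d + 1))) (ULift.{u} ℤ)

instance [Finite ι] : IsNoetherianRing (UBase.{u} N d ι) := by
  have : IsNoetherianRing (ULift.{u} ℤ) := isNoetherianRing_of_ringEquiv ℤ ULift.ringEquiv.symm
  infer_instance

variable {N d ι}

/-- The exponent attached to `e`. -/
noncomputable def expo (e : Fin N → Fin (d + 1)) : Fin N →₀ ℕ := Finsupp.equivFunOnFinite.symm fun j ↦ (e j : ℕ)

theorem expo_injective : Function.Injective (expo : (Fin N → Fin (d + 1)) → (Fin N →₀ ℕ)) := by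
  intro e e' h
  have h1 := Finsupp.equivFunOnFinite.symm.injective h
  funext j
  exact Fin.ext (congrFun h1 j)

theorem exists_expo {k : Type*} [CommRing k] (p : MvPolynomial (Fin N) k) (hp : p.totalDegree ≤ d) (m : Fin N →₀ ℕ)
    (hm : coeff m p ≠ 0) : ∃ e : Fin N → Fin (d + 1), expo e = m := by
  have h1 : ∀ j, m j ≤ d := by
    intro j
    have h2 := MvPolynomial.le_totalDegree (p := p) (s := m) (MvPolynomial.mem_support_iff.2 hm)
    refine le_trans ?_ (h2.trans hp)
    rw [Finsupp.sum_fintype _ _ (fun _ ↦ rfl)]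
    exact Finset.single_le_sum (f := fun i ↦ m i) (fun i _ ↦ Nat.zero_le _) (Finset.mem_univ j)
  refine ⟨fun j ↦ ⟨m j, Nat.lt_succ_of_le (h1 j)⟩, ?_⟩
  ext j
  rfl

/-- The universal family. -/
noncomputable def univ (i : ι) : MvPolynomial (Fin N) (UBase.{u} N d ι) :=
  ∑ e : Fin N → Fin (d + 1), monomial (expo e) (X (i, e))

/-- Every family of polynomials of degree at most `d` is a specialization of the universal one. -/
theorem exists_spec (k : Type u) [CommRing k] (g : ι → MvPolynomial (Fin N) k) (hg : ∀ i, (g i).totalDegree ≤ d) :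
    ∃ φ : UBase.{u} N d ι →+* k, ∀ i, MvPolynomial.map φ (univ (d := d) i) = g i := by
  classical
  let φ : UBase.{u} N d ι →+* k := eval₂Hom ((Int.castRingHom k).comp (ULift.ringEquiv : ULift.{u} ℤ ≃+* ℤ).toRingHom)
    (fun x ↦ coeff (expo x.2) (g x.1))
  refine ⟨φ, fun i ↦ ?_⟩
  ext m
  rw [univ, map_sum]
  simp only [map_monomial, coeff_sum, coeff_monomial, φ, coe_eval₂Hom, eval₂_X]
  by_cases hm : coeff m (g i) = 0
  · rw [hm]
    refine Finset.sum_eq_zero fun e _ ↦ ?_
    split_ifs with h
    · rw [h, hm]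
    · rfl
  · obtain ⟨e, rfl⟩ := exists_expo (g i) (hg i) m hm
    rw [Finset.sum_eq_single e]
    · simp
    · intro e' _ h
      rw [if_neg]
      exact fun h' ↦ h (expo_injective h')
    · intro h
      exact absurd (Finset.mem_univ e) h

end Univ

/-- Uniform degree bound for syzygies over all fields. -/
theorem exists_bound (N d : ℕ) (ι κ : Type) [Fintype ι] [Fintype κ] :
    ∃ B : ℕ, ∀ (k : Type u) [Field k] (M : Matrix ι κ (MvPolynomial (Fin N) k)),
      (∀ i j, (M i j).totalDegree ≤ d) → Ker M ≤ Submodule.span (MvPolynomial (Fin N) k) (kerLE M B) := by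
  let A := UBase.{u} N d (ι × κ)
  let U : Matrix ι κ (MvPolynomial (Fin N) A) := Matrix.of fun i j ↦ univ (i, j)
  obtain ⟨B, hB⟩ := NoethBd.exists_bound' (A := A) (fun k _ φ B ↦
    Ker (U.map (MvPolynomial.map φ)) ≤ Submodule.span (MvPolynomial (Fin N) k) (kerLE (U.map (MvPolynomial.map φ)) B))
    (fun k _ φ R R' hR h ↦ h.trans (Submodule.span_mono (kerLE_mono _ hR)))
    (by
      intro D _ _ _ π
      obtain ⟨a, ha, R, hR⟩ := exists_generic_bound D (Fin N) ι κ (U.map (MvPolynomial.map π))
      refine ⟨a, ha, R, fun k _ φ hφ ↦ ?_⟩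
      have h1 := hR k φ hφ
      have h2 : (U.map (MvPolynomial.map π)).map (MvPolynomial.map φ) = U.map (MvPolynomial.map (φ.comp π)) := by
        ext1 i j
        simp only [Matrix.map_apply, MvPolynomial.map_map]
      rw [h2] at h1
      exact h1)
  refine ⟨B, fun k _ M hM ↦ ?_⟩
  obtain ⟨φ, hφ⟩ := exists_spec (d := d) k (fun x : ι × κ ↦ M x.1 x.2) (fun x ↦ hM x.1 x.2)
  have h1 := hB k φ
  have h2 : U.map (MvPolynomial.map φ) = M := by
    ext1 i j
    exact hφ (i, j)
  rw [h2] at h1
  exact h1

end K58.Syz
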