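import Groth.Agent.Brauer.K443.PnPt
import Groth.Agent.Sga3C.QuotGlue

/-!
# Points of `P^N_ℤ` with values in a ring

`pt v i hi : Spec B ⟶ P^N_ℤ`, for any ring `B` and any vector `v : Fin (N + 1) → B` with `v i` a unit.
-/

set_option autoImplicit false
universe u

open CategoryTheory AlgebraicGeometry MvPolynomial

namespace K58.ZPt

open Groth.Agent.Sga5.ProjChart Groth.Agent.Sga7.H132.ProjPts K443.PnPt

/-- The base ring. -/
abbrev Z : Type u := ULift.{u} ℤ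

theorem ringHomZ_ext {S : Type*} [CommRing S] (f g : Z.{u} →+* S) : f = g := by
  ext c
  have h1 : c = ((c.down : ℤ) : Z.{u}) := by
    apply ULift.ext
    simp
  rw [h1, map_intCast, map_intCast]

/-- The structure of a `ℤ`-algebra. -/
noncomputable abbrev algZ (B : Type u) [CommRing B] : Algebra Z.{u} B :=
  ((Int.castRingHom B).comp ULift.ringEquiv.toRingHom).toAlgebra

variable {N : ℕ}

theorem chart_hom_ext {B : Type u} [CommRing B] {i : Fin (N + 1)} {χ χ' : Chart N Z.{u} i →+* B}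
    (h : ∀ l, χ (coord N Z.{u} i l) = χ' (coord N Z.{u} i l)) : χ = χ' :=
  ringHom_ext_chart N Z.{u} i (fun c ↦ by
    have := ringHomZ_ext (χ.comp (chartC N Z.{u} i)) (χ'.comp (chartC N Z.{u} i))
    exact DFunLike.congr_fun this c) h

/-- The ring map of the chart. -/
noncomputable def chiZ {B : Type u} [CommRing B] (v : Fin (N + 1) → B) (i : Fin (N + 1)) : Chart N Z.{u} i →+* B :=
  @chi N Z.{u} _ B _ (algZ B) i v

theorem chiZ_coord {B : Type u} [CommRing B] (v : Fin (N + 1) → B) (i : Fin (N + 1)) (hv : v i = 1)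
    (l : Fin (N + 1)) : chiZ v i (coord N Z.{u} i l) = v l :=
  @chi_coord N Z.{u} _ B _ (algZ B) i v hv l

/-- The point with homogeneous coordinates `v`. -/
noncomputable def pt {B : Type u} [CommRing B] (v : Fin (N + 1) → B) (i : Fin (N + 1)) (hi : IsUnit (v i)) :
    Spec (CommRingCat.of B) ⟶ CohB1.ProjSpace N Z.{u} :=
  @vecPt N Z.{u} _ B _ (algZ B) v i hi

theorem pt_eq {B : Type u} [CommRing B] (v w : Fin (N + 1) → B) (i j : Fin (N + 1)) (hi : IsUnit (v i))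
    (hj : IsUnit (w j)) (c : B) (h : ∀ l, w l = c * v l) : pt v i hi = pt w j hj :=
  @vecPt_eq N Z.{u} _ B _ (algZ B) v w i j hi hj c (funext h)

theorem spec_pt {B C : Type u} [CommRing B] [CommRing C] (ψ : B →+* C) (v : Fin (N + 1) → B) (i : Fin (N + 1))
    (hi : IsUnit (v i)) (hi' : IsUnit (ψ (v i))) :
    Spec.map (CommRingCat.ofHom ψ) ≫ pt v i hi = pt (fun l ↦ ψ (v l)) i hi' :=
  @spec_vecPt N Z.{u} _ B _ (algZ B) C _ (algZ C) ψ (fun c ↦
    DFunLike.congr_fun (ringHomZ_ext (ψ.comp (@algebraMap Z.{u} B _ _ (algZ B))) (@algebraMap Z.{u} C _ _ (algZ C))) c)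
    v i hi hi'

theorem pt_eq_chart {B : Type u} [CommRing B] (v : Fin (N + 1) → B) (i : Fin (N + 1)) (hi : IsUnit (v i)) :
    pt v i hi = Spec.map (CommRingCat.ofHom (chiZ (((hi.unit⁻¹ : Bˣ) : B) • v) i)) ≫ chart N Z.{u} i := rfl

theorem spec_chart {B : Type u} [CommRing B] {i : Fin (N + 1)} (χ : Chart N Z.{u} i →+* B) :
    ∃ h : IsUnit (χ (coord N Z.{u} i i)), Spec.map (CommRingCat.ofHom χ) ≫ chart N Z.{u} i =
      pt (fun l ↦ χ (coord N Z.{u} i l)) i h := by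
  have h0 : χ (coord N Z.{u} i i) = 1 := by rw [coord_self, map_one]
  refine ⟨by rw [h0]; exact isUnit_one, ?_⟩
  rw [pt_eq_chart]
  congr 3
  refine chart_hom_ext fun l ↦ ?_
  rw [chiZ_coord]
  · have h1 : IsUnit (χ (coord N Z.{u} i i)) := by rw [h0]; exact isUnit_one
    have h2 : ((h1.unit⁻¹ : Bˣ) : B) = 1 := by
      calc ((h1.unit⁻¹ : Bˣ) : B) = ((h1.unit⁻¹ : Bˣ) : B) * 1 := (mul_one _).symm
        _ = ((h1.unit⁻¹ : Bˣ) : B) * χ (coord N Z.{u} i i) := congrArg _ h0.symm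
        _ = 1 := h1.val_inv_mul
    rw [Pi.smul_apply, smul_eq_mul]
    erw [h2]
    rw [one_mul]
  · rw [Pi.smul_apply, smul_eq_mul]
    exact IsUnit.val_inv_mul _

/-- Overlaps: proportional coordinates. -/
theorem pt_cross {B : Type u} [CommRing B] (v w : Fin (N + 1) → B) (i j : Fin (N + 1)) (hi : IsUnit (v i))
    (hj : IsUnit (w j)) (h : pt v i hi = pt w j hj) (l m : Fin (N + 1)) : v l * w m = v m * w l := by
  rw [pt_eq_chart, pt_eq_chart] at h
  obtain ⟨-, h1, -⟩ := overlap N Z.{u} i j _ _ h.symm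
  have hv : (((hi.unit⁻¹ : Bˣ) : B) • v) i = 1 := by
    rw [Pi.smul_apply, smul_eq_mul]
    exact IsUnit.val_inv_mul _
  have hw : (((hj.unit⁻¹ : Bˣ) : B) • w) j = 1 := by
    rw [Pi.smul_apply, smul_eq_mul]
    exact IsUnit.val_inv_mul _
  have h2 : ∀ l, ((hj.unit⁻¹ : Bˣ) : B) * w l * (((hi.unit⁻¹ : Bˣ) : B) * v j) = ((hi.unit⁻¹ : Bˣ) : B) * v l := by
    intro l
    have := h1 l
    rw [chiZ_coord _ _ hw, chiZ_coord _ _ hv, chiZ_coord _ _ hv] at this
    exact this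
  have hui : v i * ((hi.unit⁻¹ : Bˣ) : B) = 1 := hi.mul_val_inv
  have h3 : ∀ l, v l = (((hj.unit⁻¹ : Bˣ) : B) * v j) * w l := by
    intro l
    calc v l = (v i * ((hi.unit⁻¹ : Bˣ) : B)) * v l := by rw [hui, one_mul]
      _ = v i * (((hi.unit⁻¹ : Bˣ) : B) * v l) := by ring
      _ = v i * (((hj.unit⁻¹ : Bˣ) : B) * w l * (((hi.unit⁻¹ : Bˣ) : B) * v j)) := by rw [h2]
      _ = (v i * ((hi.unit⁻¹ : Bˣ) : B)) * ((((hj.unit⁻¹ : Bˣ) : B) * v j) * w l) := by ring
      _ = _ := by rw [hui, one_mul]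
  rw [h3 l, h3 m]
  ring

end K58.ZPt
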